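import Groth.Agent.Lib.CanonMod.CM
import Groth.Agent.Lib.CatCM.Basic
import Groth.Agent.Lib.SyntLoc.Field
import Groth.Agent.Lib.Faltings.Transfer
import Groth.Agent.Lib.Depth.Local
import Groth.Prelude.Def_GrSyz
import Mathlib.RingTheory.GradedAlgebra.Radical
import Mathlib.RingTheory.RegularLocalRing.Polynomial

/-!
# Homogeneous ideals with Cohen–Macaulay quotient in a polynomial ring
-/

set_option autoImplicit false
set_option linter.style.haveILetI false
universe u

open IsLocalRing

namespace GrothLib.LiaisonCM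

/-- The localization of a quotient is the quotient of the localization. -/
theorem nonempty_localization_quot {P B : Type u} [CommRing P] [CommRing B] (α : P →+* B)
    (hα : Function.Surjective α) (q : Ideal B) [q.IsPrime] :
    Nonempty ((Localization.AtPrime (q.comap α) ⧸
      (RingHom.ker α).map (algebraMap P (Localization.AtPrime (q.comap α)))) ≃+* Localization.AtPrime q) := by
  let Q := q.comap α
  have hT : Submonoid.map α Q.primeCompl = q.primeCompl := by
    ext x
    constructor
    · rintro ⟨y, hy, rfl⟩; exact hy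
    · intro hx
      obtain ⟨y, rfl⟩ := hα x
      exact ⟨y, hx, rfl⟩
  let ψ : Localization.AtPrime Q →+* Localization.AtPrime q :=
    IsLocalization.map (Localization.AtPrime q) α (T := q.primeCompl) (hT ▸ Q.primeCompl.le_comap_map)
  have hψ : Function.Surjective ψ := by
    intro z
    obtain ⟨⟨b, s⟩, rfl⟩ := IsLocalization.mk'_surjective q.primeCompl z
    obtain ⟨a, rfl⟩ := hα b
    obtain ⟨t, ht, hts⟩ : (s : B) ∈ Submonoid.map α Q.primeCompl := hT.symm ▸ s.2
    refine ⟨IsLocalization.mk' _ a ⟨t, ht⟩, ?_⟩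
    rw [IsLocalization.map_mk']
    congr 1
    exact Subtype.ext hts
  exact ⟨(Ideal.quotEquivOfEq (IsLocalization.ker_map _ _ hT).symm).trans
    (RingHom.quotientKerEquivOfSurjective hψ)⟩

theorem cm_of_ringEquiv {R S : Type u} [CommRing R] [CommRing S] (e : R ≃+* S)
    [h : LocCoh.IsCohenMacaulayLocalRing R] : LocCoh.IsCohenMacaulayLocalRing S := by
  haveI := isNoetherianRing_of_ringEquiv R e
  haveI := e.isLocalRing
  letI := e.toRingHom.toAlgebra
  refine ⟨?_⟩
  have h1 := h.supportDim_eq_depth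
  rw [Module.supportDim_self_eq_ringKrullDim] at h1 ⊢
  rw [← ringKrullDim_eq_of_ringEquiv e, h1,
    ← GrothLib.Faltings.depth_eq_of_surjective (A := R) (A' := S) (M := S) e.surjective]
  exact congrArg _ (GrothLib.Depth.idealDepth_eq_of_equiv _ (LinearEquiv.ofBijective (Algebra.linearMap R S) e.bijective))

/-- A non-zero-divisor cuts a Cohen–Macaulay ring out of one. -/
theorem isCohenMacaulayRing_quot_span {A : Type u} [CommRing A] [hA : LocCoh.IsCohenMacaulayRing A]
    {a : A} (ha : IsSMulRegular A a) : LocCoh.IsCohenMacaulayRing (A ⧸ Ideal.span {a}) := by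
  refine { isCohenMacaulayLocalRing_localization := fun q _ => ?_ }
  obtain ⟨e⟩ := nonempty_localization_quot (Ideal.Quotient.mk (Ideal.span {a})) Ideal.Quotient.mk_surjective q
  haveI := hA.isCohenMacaulayLocalRing_localization (q.comap (Ideal.Quotient.mk (Ideal.span {a})))
  have hmem : a ∈ q.comap (Ideal.Quotient.mk (Ideal.span {a})) := by
    rw [Ideal.mem_comap, Ideal.Quotient.eq_zero_iff_mem.2 (Ideal.mem_span_singleton_self a)]
    exact zero_mem _
  let L := Localization.AtPrime (q.comap (Ideal.Quotient.mk (Ideal.span {a})))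
  haveI : Module.Flat A L := IsLocalization.flat L (q.comap (Ideal.Quotient.mk (Ideal.span {a}))).primeCompl
  haveI := SyntLoc.isCohenMacaulayLocalRing_quotient_ofList (L := L) [algebraMap A L a]
    (fun r hr => by
      rw [List.mem_singleton] at hr
      subst hr
      exact (IsLocalization.AtPrime.to_map_mem_maximal_iff L _ a).2 hmem)
    ((RingTheory.Sequence.isWeaklyRegular_singleton_iff L _).2 (ha.of_flat))
  exact cm_of_ringEquiv ((Ideal.quotEquivOfEq (I := Ideal.ofList [algebraMap A L a])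
    (J := (RingHom.ker (Ideal.Quotient.mk (Ideal.span {a}))).map (algebraMap A L)) (by
    rw [Ideal.mk_ker, Ideal.map_span, Set.image_singleton, Ideal.ofList_singleton])).trans e)

/-- In a ring with Cohen–Macaulay quotient, the associated primes of the quotient are minimal. -/
theorem mem_minimalPrimes_of_mem_associatedPrimes {R : Type u} [CommRing R] [IsNoetherianRing R] (c : Ideal R)
    [hc : LocCoh.IsCohenMacaulayRing (R ⧸ c)] {P : Ideal R} (hP : P ∈ associatedPrimes R (R ⧸ c)) :
    P ∈ c.minimalPrimes := by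
  haveI := hP.isPrime
  obtain ⟨-, x, hx⟩ := isAssociatedPrime_iff.1 hP
  have hcP : c ≤ P := fun y hy => by
    rw [hx, Submodule.mem_colon_singleton, Submodule.mem_bot]
    obtain ⟨x, rfl⟩ := Submodule.Quotient.mk_surjective c x
    rw [← Submodule.Quotient.mk_smul, Submodule.Quotient.mk_eq_zero]
    exact c.mul_mem_right x hy
  have hk : RingHom.ker (Ideal.Quotient.mk c) ≤ P := by rwa [Ideal.mk_ker]
  haveI : (P.map (Ideal.Quotient.mk c)).IsPrime :=
    Ideal.map_isPrime_of_surjective Ideal.Quotient.mk_surjective hk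
  have hQ : P.map (Ideal.Quotient.mk c) ∈ associatedPrimes (R ⧸ c) (R ⧸ c) := by
    refine isAssociatedPrime_iff.2 ⟨inferInstance, x, ?_⟩
    ext b
    obtain ⟨r, rfl⟩ := Ideal.Quotient.mk_surjective b
    rw [← Ideal.mem_comap, GrothLib.Faltings.comap_map_eq Ideal.Quotient.mk_surjective hk, hx,
      Submodule.mem_colon_singleton, Submodule.mem_colon_singleton, Submodule.mem_bot, Submodule.mem_bot]
    rfl
  have h := GrothLib.Faltings.depth_eq_zero_of_mem_associatedPrimes hQ
  rw [GrothLib.Depth.depth_localization_self] at h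
  haveI := hc.isCohenMacaulayLocalRing_localization (P.map (Ideal.Quotient.mk c))
  have h2 := LocCoh.IsCohenMacaulayLocalRing.supportDim_eq_depth (R := Localization.AtPrime (P.map (Ideal.Quotient.mk c)))
  rw [h, Module.supportDim_self_eq_ringKrullDim,
    IsLocalization.AtPrime.ringKrullDim_eq_height (P.map (Ideal.Quotient.mk c))] at h2
  have h0 : (P.map (Ideal.Quotient.mk c)).height = 0 := WithBot.coe_injective h2
  rw [Ideal.height_eq_zero_iff] at h0
  refine ⟨⟨inferInstance, hcP⟩, fun Q hQ' hQP => ?_⟩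
  haveI := hQ'.1
  have hkQ : RingHom.ker (Ideal.Quotient.mk c) ≤ Q := by rw [Ideal.mk_ker]; exact hQ'.2
  haveI : (Q.map (Ideal.Quotient.mk c)).IsPrime :=
    Ideal.map_isPrime_of_surjective Ideal.Quotient.mk_surjective hkQ
  have h1 := Ideal.comap_mono (f := Ideal.Quotient.mk c) (h0.2 ⟨inferInstance, bot_le⟩ (Ideal.map_mono hQP))
  rwa [GrothLib.Faltings.comap_map_eq Ideal.Quotient.mk_surjective hk,
    GrothLib.Faltings.comap_map_eq Ideal.Quotient.mk_surjective hkQ] at h1

/-- In a Cohen–Macaulay local ring, an ideal with Cohen–Macaulay quotient is equidimensional. -/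
theorem height_minimalPrimes_of_cm_quot {L : Type u} [CommRing L] [LocCoh.IsCohenMacaulayLocalRing L]
    {c : Ideal L} (hc : c ≠ ⊤) [LocCoh.IsCohenMacaulayLocalRing (L ⧸ c)] {N : ℕ} (hN : ringKrullDim L = N) :
    ∃ g d : ℕ, g + d = N ∧ ringKrullDim (L ⧸ c) = d ∧ ∀ P ∈ c.minimalPrimes, P.height = g := by
  obtain ⟨g, hg⟩ := ENat.ne_top_iff_exists.1 (Ideal.height_ne_top (I := c) hc)
  obtain ⟨d, hd⟩ : ∃ d : ℕ, ringKrullDim (L ⧸ c) = d := by
    obtain ⟨e, he⟩ := WithBot.ne_bot_iff_exists.1 (ringKrullDim_ne_bot (R := L ⧸ c))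
    obtain ⟨d, rfl⟩ := ENat.ne_top_iff_exists.1 (fun h : e = ⊤ => (ringKrullDim_ne_top (R := L ⧸ c)) (by rw [← he, h]; rfl))
    exact ⟨d, he.symm⟩
  have hgd : g + d = N := GrothLib.CanonMod.height_add_dim_quotient c hc hg.symm hd hN
  refine ⟨g, d, hgd, hd, fun P hP => ?_⟩
  haveI := hP.1.1
  have hk : RingHom.ker (Ideal.Quotient.mk c) ≤ P := by rw [Ideal.mk_ker]; exact hP.1.2
  let Q := P.map (Ideal.Quotient.mk c)
  haveI : Q.IsPrime := Ideal.map_isPrime_of_surjective Ideal.Quotient.mk_surjective hk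
  have hQ : Q.comap (Ideal.Quotient.mk c) = P := GrothLib.Faltings.comap_map_eq Ideal.Quotient.mk_surjective hk
  have hQmin : Q ∈ (Module.annihilator (L ⧸ c) (L ⧸ c)).minimalPrimes := by
    rw [Module.annihilator_eq_bot.2 inferInstance]
    refine ⟨⟨inferInstance, bot_le⟩, fun Q' hQ' hle => ?_⟩
    haveI := hQ'.1
    have h1 : Q'.comap (Ideal.Quotient.mk c) ≤ P := (Ideal.comap_mono hle).trans_eq hQ
    have h2 : c ≤ Q'.comap (Ideal.Quotient.mk c) := fun y hy => by
      rw [Ideal.mem_comap, Ideal.Quotient.eq_zero_iff_mem.2 hy]; exact zero_mem _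
    exact Ideal.map_le_iff_le_comap.2 (hP.2 ⟨inferInstance, h2⟩ h1)
  have hQass : Q ∈ associatedPrimes (L ⧸ c) (L ⧸ c) :=
    Module.associatedPrimes.minimalPrimes_annihilator_subset_associatedPrimes _ _ hQmin
  have hdQ : ringKrullDim ((L ⧸ c) ⧸ Q) = d := by
    refine le_antisymm (hd ▸ ringKrullDim_quotient_le Q) ?_
    have h := GrothLib.Depth.depth_le_dim_quotient hQass
    rwa [← LocCoh.IsCohenMacaulayLocalRing.supportDim_eq_depth, Module.supportDim_self_eq_ringKrullDim, hd] at h
  have hdP : ringKrullDim (L ⧸ P) = d := by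
    rw [← hdQ]
    exact ringKrullDim_eq_of_ringEquiv ((Ideal.quotEquivOfEq (by
      rw [sup_eq_right.2 hP.1.2])).trans (DoubleQuot.quotQuotEquivQuotSup c P).symm)
  obtain ⟨g', hg'⟩ := ENat.ne_top_iff_exists.1 (Ideal.height_ne_top (I := P) ‹P.IsPrime›.ne_top)
  have h := GrothLib.CanonMod.height_add_dim_quotient P ‹P.IsPrime›.ne_top hg'.symm hdP hN
  rw [← hg']
  exact_mod_cast (show g' = g by omega)

variable (K : Type u) [Field K] (n : ℕ)

/-- The irrelevant maximal ideal. -/
noncomputable abbrev irr : Ideal (MvPolynomial (Fin (n + 1)) K) :=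
  RingHom.ker (MvPolynomial.constantCoeff (σ := Fin (n + 1)) (R := K))

instance irr_isMaximal : (irr K n).IsMaximal :=
  RingHom.ker_isMaximal_of_surjective _ fun a => ⟨MvPolynomial.C a, MvPolynomial.constantCoeff_C _ a⟩

variable {K n}

theorem le_irr {J : Ideal (MvPolynomial (Fin (n + 1)) K)}
    (hJ : J.IsHomogeneous (GrSyz.stdGr K (Fin (n + 1)))) (hne : J ≠ ⊤) : J ≤ irr K n := by
  intro f hf
  rw [RingHom.mem_ker]
  by_contra h0
  have h1 : ((DirectSum.decompose (GrSyz.stdGr K (Fin (n + 1))) f 0 : GrSyz.stdGr K (Fin (n + 1)) 0) :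
      MvPolynomial (Fin (n + 1)) K) = MvPolynomial.C (MvPolynomial.constantCoeff f) := by
    show ((MvPolynomial.weightedDecomposition K (fun _ : Fin (n + 1) => (1 : ℤ))).decompose' f 0 :
      MvPolynomial (Fin (n + 1)) K) = _
    classical
    rw [MvPolynomial.weightedDecomposition.decompose'_apply]
    ext d
    rw [MvPolynomial.coeff_weightedHomogeneousComponent, MvPolynomial.coeff_C, MvPolynomial.constantCoeff_eq]
    have hw : Finsupp.weight (fun _ : Fin (n + 1) => (1 : ℤ)) d = 0 ↔ 0 = d := by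
      rw [Finsupp.weight_apply, Finsupp.sum_fintype _ _ (fun i => zero_smul ℕ (1 : ℤ))]
      simp only [nsmul_one]
      constructor
      · intro h
        ext i
        have := (Finset.sum_eq_zero_iff_of_nonneg (fun j _ => Int.natCast_nonneg (d j))).1 h i (Finset.mem_univ i)
        exact (by exact_mod_cast this.symm)
      · rintro rfl
        simp
    by_cases hd : (0 : Fin (n + 1) →₀ ℕ) = d
    · rw [if_pos (hw.2 hd), if_pos hd, hd]
    · rw [if_neg (fun h => hd (hw.1 h)), if_neg hd]
  exact hne (Ideal.eq_top_of_isUnit_mem _ (hJ 0 hf) (h1 ▸ (Ne.isUnit h0).map MvPolynomial.C))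

theorem minimalPrimes_le_irr {J : Ideal (MvPolynomial (Fin (n + 1)) K)}
    (hJ : J.IsHomogeneous (GrSyz.stdGr K (Fin (n + 1)))) {P : Ideal (MvPolynomial (Fin (n + 1)) K)}
    (hP : P ∈ J.minimalPrimes) : P ≤ irr K n := by
  haveI := hP.1.1
  have h1 : J ≤ (P.homogeneousCore (GrSyz.stdGr K (Fin (n + 1)))).toIdeal :=
    hJ.toIdeal_homogeneousCore_eq_self.ge.trans (Ideal.homogeneousCore_mono _ hP.1.2)
  exact (hP.2 ⟨Ideal.IsPrime.homogeneousCore ‹P.IsPrime›, h1⟩ (Ideal.toIdeal_homogeneousCore_le _ P)).trans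
    (le_irr (Ideal.homogeneousCore _ P).isHomogeneous
      (ne_top_of_le_ne_top hP.1.1.ne_top (Ideal.toIdeal_homogeneousCore_le _ P)))

/-- The dimension, depth and heights for a homogeneous ideal with Cohen–Macaulay quotient. -/
theorem exists_dim {J : Ideal (MvPolynomial (Fin (n + 1)) K)}
    (hJ : J.IsHomogeneous (GrSyz.stdGr K (Fin (n + 1)))) (hne : J ≠ ⊤)
    [hCM : LocCoh.IsCohenMacaulayRing (MvPolynomial (Fin (n + 1)) K ⧸ J)] :
    ∃ g d : ℕ, g + d = n + 1 ∧ J.height = g ∧
      ringKrullDim (Localization.AtPrime (irr K n) ⧸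
        J.map (algebraMap (MvPolynomial (Fin (n + 1)) K) (Localization.AtPrime (irr K n)))) = d ∧
      (∀ P ∈ associatedPrimes (MvPolynomial (Fin (n + 1)) K) (MvPolynomial (Fin (n + 1)) K ⧸ J), P.height = g) ∧
      (d : ℕ∞) ≤ LocCoh.idealDepth (irr K n) (MvPolynomial (Fin (n + 1)) K ⧸ J) := by
  set R := MvPolynomial (Fin (n + 1)) K
  set m := irr K n
  let L := Localization.AtPrime m
  haveI := (GrothLib.CatCM.isCohenMacaulayRing_of_isRegularRing R).isCohenMacaulayLocalRing_localization m
  have hJm : J ≤ m := le_irr hJ hne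
  set JL := J.map (algebraMap R L) with hJL
  have hN : ringKrullDim L = ((n + 1 : ℕ) : WithBot ℕ∞) := by
    rw [IsLocalization.AtPrime.ringKrullDim_eq_height m L, GrothLib.LCI6.height_eq_of_isMaximal m]
    rfl
  have hk : RingHom.ker (Ideal.Quotient.mk J) ≤ m := by rwa [Ideal.mk_ker]
  let mb := m.map (Ideal.Quotient.mk J)
  haveI : mb.IsPrime := Ideal.map_isPrime_of_surjective Ideal.Quotient.mk_surjective hk
  haveI hAcm : LocCoh.IsCohenMacaulayLocalRing (L ⧸ JL) := by
    have key : ∀ (m' : Ideal R) [m'.IsPrime], m' = m →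
        Nonempty ((Localization.AtPrime m' ⧸ J.map (algebraMap R (Localization.AtPrime m'))) ≃+*
          Localization.AtPrime mb) → LocCoh.IsCohenMacaulayLocalRing (L ⧸ JL) := by
      rintro m' _ rfl ⟨e⟩
      haveI := hCM.isCohenMacaulayLocalRing_localization mb
      exact cm_of_ringEquiv (R := Localization.AtPrime mb) e.symm
    refine key (mb.comap (Ideal.Quotient.mk J)) (GrothLib.Faltings.comap_map_eq Ideal.Quotient.mk_surjective hk) ?_
    obtain ⟨e⟩ := nonempty_localization_quot (Ideal.Quotient.mk J) Ideal.Quotient.mk_surjective mb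
    exact ⟨(Ideal.quotEquivOfEq (by rw [Ideal.mk_ker])).trans e⟩
  have hJLm : JL ≤ maximalIdeal L := by
    rw [← Localization.AtPrime.map_eq_maximalIdeal]
    exact Ideal.map_mono hJm
  have hJLne : JL ≠ ⊤ := fun h => (maximalIdeal.isMaximal L).ne_top (top_le_iff.1 (h.ge.trans hJLm))
  obtain ⟨g, d, hgd, hd, hPg⟩ := height_minimalPrimes_of_cm_quot (L := L) hJLne hN
  have hmin : ∀ P ∈ J.minimalPrimes, P.height = g := by
    intro P hP
    haveI := hP.1.1
    have hdisj : Disjoint (m.primeCompl : Set R) (P : Set R) :=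
      Set.disjoint_left.2 fun x hx hxP => hx (minimalPrimes_le_irr hJ hP hxP)
    haveI : (P.map (algebraMap R L)).IsPrime :=
      IsLocalization.isPrime_of_isPrime_disjoint m.primeCompl L P inferInstance hdisj
    have hPL : (P.map (algebraMap R L)).comap (algebraMap R L) = P :=
      IsLocalization.comap_map_of_isPrime_disjoint m.primeCompl L inferInstance hdisj
    have hPmin : P.map (algebraMap R L) ∈ JL.minimalPrimes := by
      refine ⟨⟨inferInstance, Ideal.map_mono hP.1.2⟩, fun Q' hQ' hle => ?_⟩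
      haveI := hQ'.1
      exact Ideal.map_le_iff_le_comap.2 (hP.2 ⟨inferInstance, Ideal.le_comap_map.trans (Ideal.comap_mono hQ'.2)⟩
        ((Ideal.comap_mono hle).trans_eq hPL))
    rw [← hPL, IsLocalization.height_comap m.primeCompl]
    exact hPg _ hPmin
  refine ⟨g, d, hgd, ?_, hd, fun P hP => hmin P (mem_minimalPrimes_of_mem_associatedPrimes J hP), ?_⟩
  · obtain ⟨P₀, hP₀⟩ := Ideal.nonempty_minimalPrimes hne
    rw [Ideal.height_eq_inf_minimalPrimes]
    exact le_antisymm ((iInf₂_le P₀ hP₀).trans (hmin P₀ hP₀).le) (le_iInf₂ fun P hP => (hmin P hP).ge)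
  · cases h : LocCoh.idealDepth m (R ⧸ J) using ENat.recTopCoe with
    | top => exact le_top
    | coe k =>
      obtain ⟨p, hp, hle⟩ := GrothLib.Depth.exists_depth_localization_le m k h
      have hpm : p.asIdeal = m := ((irr_isMaximal K n).eq_of_le p.isPrime.ne_top hp).symm
      refine le_trans ?_ hle
      have key : ∀ (m' : Ideal R) [m'.IsPrime], m' = m →
          (d : ℕ∞) ≤ LocCoh.depth (Localization.AtPrime m') (LocalizedModule m'.primeCompl (R ⧸ J)) := by
        rintro m' _ rfl
        let e : LocalizedModule m.primeCompl (R ⧸ J) ≃ₗ[L] (L ⧸ JL) :=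
          (LocalizedModule.equivTensorProduct m.primeCompl (R ⧸ J)).trans
            (Algebra.TensorProduct.quotIdealMapEquivTensorQuot L J).symm.toLinearEquiv
        rw [show LocCoh.depth L (LocalizedModule m.primeCompl (R ⧸ J)) = _ from
          GrothLib.Depth.idealDepth_eq_of_equiv (maximalIdeal L) e]
        have h1 := GrothLib.Depth.idealDepth_map_eq (B := L ⧸ JL) (maximalIdeal L) (L ⧸ JL)
        rw [Ideal.Quotient.algebraMap_eq, GrothLib.RegLoc.map_maximalIdeal_quotient] at h1
        have h2 := hAcm.supportDim_eq_depth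
        rw [Module.supportDim_self_eq_ringKrullDim, hd] at h2
        refine le_of_eq ((WithBot.coe_injective (by exact_mod_cast h2)).trans h1)
      exact key _ hpm

end GrothLib.LiaisonCM
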