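import Groth.Agent.Lib.LiaisonCM.Basic
import Groth.Agent.Lib.Gor.Quotient
import Groth.Agent.Lib.Gor.InjDim
import Mathlib.Algebra.Category.ModuleCat.Ext.Finite

/-!
# Linkage by a Gorenstein ideal preserves the Cohen–Macaulay property
-/

set_option autoImplicit false
set_option linter.style.haveILetI false
universe u

open IsLocalRing CategoryTheory Abelian
open scoped Pointwise

namespace GrothLib.LiaisonCM

theorem ext_vanish {A : Type u} [CommRing A] [IsLocalRing A] {d : ℕ} [LocCoh.IsGorensteinLocalRing A]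
    (hd : ringKrullDim A = d) :
    ∀ (k : ℕ) (N : Type u) [AddCommGroup N] [Module A N] [Module.Finite A N],
      (k : ℕ∞) ≤ LocCoh.depth A N → ∀ i, d < i + k →
        Subsingleton (Ext (ModuleCat.of A N) (ModuleCat.of A A) i) := by
  intro k
  induction k with
  | zero =>
    intro N _ _ _ _ i hi
    obtain ⟨d', hd', -, habove, -⟩ := Gor.exists_dim A
    obtain rfl : d' = d := by rw [hd'] at hd; exact_mod_cast hd
    exact Gor.subsingleton_ext_finite (ModuleCat.of A A) (N := d' + 1) (fun j hj => habove j (by omega)) N i (by omega)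
  | succ k ih =>
    intro N _ _ _ hk i hi
    rcases subsingleton_or_nontrivial N with hN | hN
    · exact subsingleton_of_forall_eq 0 fun e => by
        have h0 := (ModuleCat.isZero_of_subsingleton (ModuleCat.of A N)).eq_of_src (𝟙 _) 0
        rw [← Ext.mk₀_id_comp e, h0, Ext.mk₀_zero, Ext.zero_comp]
    obtain ⟨x, hx, hreg⟩ := (GrothLib.Depth.one_le_idealDepth_iff (maximalIdeal.isMaximal A).ne_top (M := N)).1
      (le_trans (by exact_mod_cast Nat.le_add_left 1 k) hk)
    have hq := GrothLib.Depth.idealDepth_quotSMulTop_add_one (M := N) (maximalIdeal A) hx hreg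
    have hk' : (k : ℕ∞) ≤ LocCoh.depth A (QuotSMulTop x N) := by
      have : (k : ℕ∞) + 1 ≤ LocCoh.depth A (QuotSMulTop x N) + 1 := by
        rw [show LocCoh.depth A (QuotSMulTop x N) + 1 = LocCoh.depth A N from hq]
        exact_mod_cast hk
      exact (ENat.add_le_add_iff_right ENat.one_ne_top).1 this
    haveI h3 := ih (QuotSMulTop x N) hk' (i + 1) (by omega)
    let f : N →ₗ[A] N := LinearMap.lsmul A N x
    let g : N →ₗ[A] QuotSMulTop x N := Submodule.mkQ _
    have hfg : Function.Exact f g := by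
      intro y
      rw [Submodule.mkQ_apply, Submodule.Quotient.mk_eq_zero, Submodule.mem_smul_pointwise_iff_exists]
      exact ⟨fun ⟨z, _, hz⟩ => ⟨z, hz⟩, fun ⟨z, hz⟩ => ⟨z, Submodule.mem_top, hz⟩⟩
    let S : ShortComplex (ModuleCat.{u} A) := ShortComplex.mk (ModuleCat.ofHom f) (ModuleCat.ofHom g)
      (ModuleCat.hom_ext hfg.linearMap_comp_eq_zero)
    have hS : S.ShortExact :=
      { exact := (ShortComplex.moduleCat_exact_iff _).2 fun y hy => (hfg y).1 hy
        mono_f := (ModuleCat.mono_iff_injective _).2 hreg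
        epi_g := (ModuleCat.epi_iff_surjective _).2 (Submodule.mkQ_surjective _) }
    have hsurj : ∀ e : Ext (ModuleCat.of A N) (ModuleCat.of A A) i,
        ∃ e', x • e' = e := fun e => by
      obtain ⟨e', he'⟩ := Ext.contravariant_sequence_exact₁ hS (ModuleCat.of A A) e (n₁ := i + 1)
        (add_comm 1 i) (Subsingleton.elim (α := Ext (ModuleCat.of A (QuotSMulTop x N)) (ModuleCat.of A A) (i + 1)) _ _)
      refine ⟨e', ?_⟩
      rw [← he', show (Ext.mk₀ S.f) = x • Ext.mk₀ (𝟙 (ModuleCat.of A N)) by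
        rw [← Ext.mk₀_smul]; congr 1, Ext.smul_comp, Ext.mk₀_id_comp]
    refine (Submodule.subsingleton_iff A).1 (subsingleton_of_bot_eq_top ?_)
    refine (Submodule.eq_bot_of_le_smul_of_le_jacobson_bot (maximalIdeal A) _ Module.Finite.fg_top ?_
      (maximalIdeal_le_jacobson _)).symm
    intro e _
    obtain ⟨e', rfl⟩ := hsurj e
    exact Submodule.smul_mem_smul hx Submodule.mem_top

/-- For a maximal Cohen–Macaulay quotient `A/I` and a regular element `x`, `((x) : I) = (0 : I) + (x)`. -/
theorem exists_mul_of_colon {A : Type u} [CommRing A] (I : Ideal A)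
    [Subsingleton (Ext (ModuleCat.of A (A ⧸ I)) (ModuleCat.of A A) 1)]
    {x y : A} (hreg : IsSMulRegular A x) (h : ∀ i ∈ I, y * i ∈ Ideal.span {x}) :
    ∃ c, ∀ i ∈ I, (y - x * c) * i = 0 := by
  have h' : ∀ i : I, ∃ a, a * x = y * (i : A) := fun i => Ideal.mem_span_singleton'.1 (h i i.2)
  choose φ hφ using h'
  let φl : I →ₗ[A] A :=
    { toFun := φ
      map_add' := fun i j => hreg (show x * _ = x * _ by
        rw [mul_comm x, hφ, mul_add, mul_comm x, hφ, mul_comm x, hφ, Submodule.coe_add, mul_add])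
      map_smul' := fun r i => hreg (show x * φ (r • i) = x * (r * φ i) by
        have h1 := hφ (r • i)
        rw [Submodule.coe_smul, smul_eq_mul] at h1
        linear_combination h1 - r * hφ i) }
  let S : ShortComplex (ModuleCat.{u} A) := ShortComplex.mk (ModuleCat.ofHom I.subtype) (ModuleCat.ofHom I.mkQ)
    (ModuleCat.hom_ext (LinearMap.ext fun z => (Submodule.Quotient.mk_eq_zero _).2 z.2))
  have hS : S.ShortExact :=
    { exact := (ShortComplex.moduleCat_exact_iff _).2 fun y hy =>
        ⟨⟨y, (Submodule.Quotient.mk_eq_zero _).1 hy⟩, rfl⟩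
      mono_f := (ModuleCat.mono_iff_injective _).2 Subtype.val_injective
      epi_g := (ModuleCat.epi_iff_surjective _).2 (Submodule.mkQ_surjective _) }
  obtain ⟨e, he⟩ := Ext.contravariant_sequence_exact₁ hS (ModuleCat.of A A) (Ext.mk₀ (ModuleCat.ofHom φl))
    (n₁ := 1) (add_zero 1) (Subsingleton.elim (α := Ext (ModuleCat.of A (A ⧸ I)) (ModuleCat.of A A) 1) _ _)
  obtain ⟨ψ, rfl⟩ := (Ext.mk₀_bijective _ _).2 e
  rw [Ext.mk₀_comp_mk₀] at he
  have hψ := (Ext.mk₀_bijective _ _).1 he
  refine ⟨ψ.hom 1, fun i hi => ?_⟩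
  have h1 : ψ.hom i = φ ⟨i, hi⟩ := ConcreteCategory.congr_hom hψ ⟨i, hi⟩
  have h2 : ψ.hom i = i * ψ.hom 1 := by
    rw [← smul_eq_mul, ← map_smul, smul_eq_mul, mul_one]
  have h3 := hφ ⟨i, hi⟩
  rw [← h1, h2] at h3
  linear_combination -h3

/-- Cohen–Macaulayness lifts along a regular element. -/
theorem cm_of_quot_span {A : Type u} [CommRing A] [IsLocalRing A] [IsNoetherianRing A] {x : A}
    (hx : x ∈ maximalIdeal A) (hreg : IsSMulRegular A x)
    [h : LocCoh.IsCohenMacaulayLocalRing (A ⧸ Ideal.span {x})] : LocCoh.IsCohenMacaulayLocalRing A := by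
  refine ⟨?_⟩
  have h1 := GrothLib.Depth.idealDepth_quotSMulTop_add_one (M := A) (maximalIdeal A) hx hreg
  let e : QuotSMulTop x A ≃ₗ[A] (A ⧸ Ideal.span {x}) := Submodule.quotEquivOfEq _ _
    (by rw [← Submodule.ideal_span_singleton_smul, smul_eq_mul, Ideal.mul_top])
  rw [GrothLib.Depth.idealDepth_eq_of_equiv _ e] at h1
  have h2 := GrothLib.Depth.idealDepth_map_eq (B := A ⧸ Ideal.span {x}) (maximalIdeal A) (A ⧸ Ideal.span {x})
  rw [Ideal.Quotient.algebraMap_eq, GrothLib.RegLoc.map_maximalIdeal_quotient] at h2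
  rw [Module.supportDim_self_eq_ringKrullDim, ← ringKrullDim_quotient_span_singleton_succ_eq_ringKrullDim hreg hx,
    show LocCoh.depth A A = LocCoh.idealDepth (maximalIdeal A) A from rfl, ← h1, ← h2]
  have h3 := h.supportDim_eq_depth
  rw [Module.supportDim_self_eq_ringKrullDim] at h3
  rw [h3]
  rfl

/-- If `A` is Gorenstein and `A/I` is Cohen–Macaulay of the same dimension then so is `A/(0 : I)`. -/
theorem cm_quot_colon : ∀ (d : ℕ) (A : Type u) [CommRing A] [IsLocalRing A] [LocCoh.IsGorensteinLocalRing A]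
    (I J : Ideal A), (∀ y, y ∈ J ↔ ∀ i ∈ I, y * i = 0) → J ≠ ⊤ →
      LocCoh.IsCohenMacaulayLocalRing (A ⧸ I) → ringKrullDim A = d → ringKrullDim (A ⧸ I) = d →
      LocCoh.IsCohenMacaulayLocalRing (A ⧸ J) := by
  intro d
  induction d with
  | zero =>
    intro A _ _ _ I J _ hJne _ hd _
    haveI : Nontrivial (A ⧸ J) := Ideal.Quotient.nontrivial_iff.2 hJne
    haveI : IsLocalRing (A ⧸ J) := IsLocalRing.of_surjective' (Ideal.Quotient.mk _) Ideal.Quotient.mk_surjective
    refine ⟨?_⟩
    have h := GrothLib.Depth.depth_le_supportDim (A ⧸ J) (A ⧸ J)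
    rw [Module.supportDim_self_eq_ringKrullDim] at h ⊢
    refine le_antisymm ((ringKrullDim_quotient_le J).trans (hd.le.trans ?_)) h
    exact WithBot.coe_le_coe.2 bot_le
  | succ d ih =>
    intro A _ _ _ I J hJ hJne hI hd hdI
    haveI := hI
    have hA := Gor.isCohenMacaulayLocalRing A
    have hne : maximalIdeal A ≠ ⊤ := (maximalIdeal.isMaximal A).ne_top
    haveI : Nontrivial (A ⧸ I) := LocCoh.IsCohenMacaulayLocalRing.toIsLocalRing.toNontrivial
    have hIm : I ≤ maximalIdeal A := le_maximalIdeal (Ideal.Quotient.nontrivial_iff.1 inferInstance)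
    have hdepI : LocCoh.depth A (A ⧸ I) = ((d + 1 : ℕ) : ℕ∞) := by
      have h := hI.supportDim_eq_depth
      have h2 := GrothLib.Depth.idealDepth_map_eq (B := A ⧸ I) (maximalIdeal A) (A ⧸ I)
      rw [Ideal.Quotient.algebraMap_eq, GrothLib.RegLoc.map_maximalIdeal_quotient] at h2
      rw [Module.supportDim_self_eq_ringKrullDim, hdI] at h
      exact h2.symm.trans (WithBot.coe_injective (by exact_mod_cast h.symm))
    have hdepA : LocCoh.depth A A = ((d + 1 : ℕ) : ℕ∞) := by
      obtain ⟨d', hd', hdep, -⟩ := Gor.exists_dim A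
      rw [hd] at hd'
      rw [hdep]
      exact_mod_cast hd'.symm
    obtain ⟨x, hx, hxA, hxI⟩ : ∃ x ∈ maximalIdeal A, IsSMulRegular A x ∧ IsSMulRegular (A ⧸ I) x := by
      by_contra! hc
      have hsub : (maximalIdeal A : Set A) ⊆
          ⋃ P ∈ associatedPrimes A A ∪ associatedPrimes A (A ⧸ I), (P : Set A) := by
        intro x hx
        rw [Set.biUnion_union]
        by_cases h : IsSMulRegular A x
        · right
          rw [biUnion_associatedPrimes_eq_compl_regular]
          exact hc x hx h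
        · left
          rw [biUnion_associatedPrimes_eq_compl_regular]
          exact h
      have hfin := (associatedPrimes.finite A A).union (associatedPrimes.finite A (A ⧸ I))
      rw [← hfin.coe_toFinset] at hsub
      obtain ⟨P, hP, hle⟩ := (Ideal.subset_union_prime ⊥ ⊥ (fun P hP _ _ => by
        rcases hfin.mem_toFinset.1 hP with h | h <;> exact h.isPrime)).1 (by simpa using hsub)
      rcases hfin.mem_toFinset.1 hP with hP | hP
      · have := (CMBasics.depth_eq_zero_iff (M := A)).2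
          (((maximalIdeal.isMaximal A).eq_of_le hP.isPrime.ne_top hle) ▸ hP)
        rw [hdepA] at this
        exact absurd this (by exact_mod_cast Nat.succ_ne_zero d)
      · have := (CMBasics.depth_eq_zero_iff (M := A ⧸ I)).2
          (((maximalIdeal.isMaximal A).eq_of_le hP.isPrime.ne_top hle) ▸ hP)
        rw [hdepI] at this
        exact absurd this (by exact_mod_cast Nat.succ_ne_zero d)
    haveI : Subsingleton (Ext (ModuleCat.of A (A ⧸ I)) (ModuleCat.of A A) 1) :=
      ext_vanish hd (d + 1) (A ⧸ I) hdepI.ge 1 (by omega)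
    haveI := Gor.isLocalRing_quotient hx hxA
    haveI := Gor.isGorensteinLocalRing_quotient hx hxA
    let π := Ideal.Quotient.mk (Ideal.span {x})
    have hJ' : ∀ y, y ∈ J.map π ↔ ∀ i ∈ I.map π, y * i = 0 := by
      intro y
      obtain ⟨y, rfl⟩ := Ideal.Quotient.mk_surjective y
      constructor
      · intro hy i hi
        obtain ⟨y₀, hy₀, hyy⟩ := (Ideal.mem_map_iff_of_surjective π Ideal.Quotient.mk_surjective).1 hy
        obtain ⟨i₀, hi₀, rfl⟩ := (Ideal.mem_map_iff_of_surjective π Ideal.Quotient.mk_surjective).1 hi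
        rw [← hyy, ← map_mul, (hJ y₀).1 hy₀ i₀ hi₀, map_zero]
      · intro hy
        obtain ⟨c, hc⟩ := exists_mul_of_colon I hxA (y := y) fun i hi => by
          have := hy _ (Ideal.mem_map_of_mem π hi)
          rwa [← map_mul, Ideal.Quotient.eq_zero_iff_mem] at this
        refine (Ideal.mem_map_iff_of_surjective π Ideal.Quotient.mk_surjective).2 ⟨y - x * c, (hJ _).2 hc, ?_⟩
        rw [map_sub, map_mul, show π x = 0 from Ideal.Quotient.eq_zero_iff_mem.2 (Ideal.mem_span_singleton_self x),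
          zero_mul, sub_zero]
    have hJm : J ≤ maximalIdeal A := le_maximalIdeal hJne
    haveI : IsLocalRing (A ⧸ J) :=
      haveI : Nontrivial (A ⧸ J) := Ideal.Quotient.nontrivial_iff.2 hJne
      IsLocalRing.of_surjective' (Ideal.Quotient.mk _) Ideal.Quotient.mk_surjective
    have hxI' : Ideal.Quotient.mk I x ∈ maximalIdeal (A ⧸ I) := by
      rw [← GrothLib.RegLoc.map_maximalIdeal_quotient I]; exact Ideal.mem_map_of_mem _ hx
    have hxJ' : Ideal.Quotient.mk J x ∈ maximalIdeal (A ⧸ J) := by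
      rw [← GrothLib.RegLoc.map_maximalIdeal_quotient J]; exact Ideal.mem_map_of_mem _ hx
    have hxIr : IsSMulRegular (A ⧸ I) (Ideal.Quotient.mk I x) := fun a b h => hxI (by
      simpa [Algebra.smul_def] using h)
    have hxJr : IsSMulRegular (A ⧸ J) (Ideal.Quotient.mk J x) := by
      refine isSMulRegular_iff_right_eq_zero_of_smul.2 fun z hz => ?_
      obtain ⟨y, rfl⟩ := Ideal.Quotient.mk_surjective z
      rw [smul_eq_mul, ← map_mul, Ideal.Quotient.eq_zero_iff_mem, hJ] at hz
      refine Ideal.Quotient.eq_zero_iff_mem.2 ((hJ y).2 fun i hi => hxA.right_eq_zero_of_smul ?_)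
      rw [smul_eq_mul, ← mul_assoc]
      exact hz i hi
    have e : ∀ K : Ideal A, Nonempty (((A ⧸ Ideal.span {x}) ⧸ K.map π) ≃+*
        ((A ⧸ K) ⧸ Ideal.span {Ideal.Quotient.mk K x})) := fun K =>
      ⟨(DoubleQuot.quotQuotEquivComm (Ideal.span {x}) K).trans
        (Ideal.quotEquivOfEq (by rw [Ideal.map_span, Set.image_singleton]))⟩
    obtain ⟨eI⟩ := e I
    obtain ⟨eJ⟩ := e J
    haveI : LocCoh.IsCohenMacaulayLocalRing ((A ⧸ I) ⧸ Ideal.span {Ideal.Quotient.mk I x}) := by
      have := SyntLoc.isCohenMacaulayLocalRing_quotient_ofList (L := A ⧸ I) [Ideal.Quotient.mk I x]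
        (fun r hr => by rw [List.mem_singleton.1 hr]; exact hxI')
        ((RingTheory.Sequence.isWeaklyRegular_singleton_iff _ _).2 hxIr)
      rwa [Ideal.ofList_singleton] at this
    have hdim : ∀ {R : Type u} [CommRing R] [IsLocalRing R] [IsNoetherianRing R] (a : R),
        IsSMulRegular R a → a ∈ maximalIdeal R → ringKrullDim R = ((d + 1 : ℕ) : WithBot ℕ∞) →
        ringKrullDim (R ⧸ Ideal.span {a}) = (d : WithBot ℕ∞) := fun {R} _ _ _ a ha ha' h => by
      have := ringKrullDim_quotient_span_singleton_succ_eq_ringKrullDim ha ha'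
      rw [h] at this
      exact GrothLib.LC.eq_natCast_of_add_one_eq this
    have hne' : J.map π ≠ ⊤ := fun h => (maximalIdeal.isMaximal A).ne_top (top_le_iff.1 (by
      have h1 := congrArg (Ideal.comap π) h
      rw [Ideal.comap_top, Ideal.comap_map_of_surjective' π Ideal.Quotient.mk_surjective, Ideal.mk_ker] at h1
      rw [← h1]
      exact sup_le hJm ((Ideal.span_singleton_le_iff_mem _).2 hx)))
    haveI := ih (A ⧸ Ideal.span {x}) (I.map π) (J.map π) hJ' hne'
      (cm_of_ringEquiv (R := (A ⧸ I) ⧸ Ideal.span {Ideal.Quotient.mk I x}) eI.symm) (hdim x hxA hx hd)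
      ((ringKrullDim_eq_of_ringEquiv eI).trans (hdim _ hxIr hxI' hdI))
    haveI := cm_of_ringEquiv (R := (A ⧸ Ideal.span {x}) ⧸ J.map π) eJ
    exact cm_of_quot_span hxJ' hxJr

end GrothLib.LiaisonCM
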