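import Groth.Agent.Lib.LiaisonCM.SupRing
import Groth.Agent.Lib.GorFlat.Rings

/-!
# Linking an almost complete intersection gives a Gorenstein ideal
-/

set_option autoImplicit false
set_option linter.style.haveILetI false
universe u

open IsLocalRing

namespace GrothLib.LiaisonCM

/-- If `A` is Gorenstein and `A/(f)` is Cohen–Macaulay of the same dimension, `A/(0 : f)` is Gorenstein. -/
theorem gorenstein_quot_annihilator : ∀ (d : ℕ) (A : Type u) [CommRing A] [IsLocalRing A] [LocCoh.IsGorensteinLocalRing A]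
    (f : A) (J : Ideal A), (∀ y, y ∈ J ↔ y * f = 0) → J ≠ ⊤ → f ∈ maximalIdeal A →
      LocCoh.IsCohenMacaulayLocalRing (A ⧸ Ideal.span {f}) → ringKrullDim A = (d : WithBot ℕ∞) →
      ringKrullDim (A ⧸ Ideal.span {f}) = (d : WithBot ℕ∞) → LocCoh.IsGorensteinLocalRing (A ⧸ J) := by
  intro d
  induction d with
  | zero =>
    intro A _ _ _ f J hJ hne hf hIcm hd hdI
    haveI : Ring.KrullDimLE 0 A := Ring.krullDimLE_iff.2 hd.le
    haveI : IsArtinianRing A := isArtinianRing_iff_krullDimLE_zero.2 inferInstance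
    haveI := GorFlat.isLocalRing_quot (le_maximalIdeal hne)
    haveI : IsArtinianRing (A ⧸ J) := Ideal.Quotient.mk_surjective.isArtinianRing
    refine GorFlat.gorenstein_of_socCyclic ?_
    obtain ⟨z₀, hz₀, hm₀⟩ := GorFlat.exists_socle_of_no_regular (R := A ⧸ J) fun y hy hreg =>
      (mem_maximalIdeal y).1 hy (IsArtinianRing.isUnit_of_mem_nonZeroDivisors (mem_nonZeroDivisors_iff_right.2
        fun z hz => hreg.right_eq_zero_of_smul (by rw [smul_eq_mul, mul_comm]; exact hz)))
    obtain ⟨s, -, hms, hgen⟩ := GorFlat.socCyclic_of_gorenstein (R := A)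
    have key : ∀ z : A, (∀ a ∈ maximalIdeal (A ⧸ J), a * Ideal.Quotient.mk J z = 0) → ∃ c, z * f = c * s :=
      fun z hz => hgen _ fun a ha => by
        have h1 := hz _ (GorFlat.mk_mem_maximalIdeal_iff.2 ha)
        rw [← map_mul, Ideal.Quotient.eq_zero_iff_mem, hJ] at h1
        rw [← mul_assoc]; exact h1
    obtain ⟨z, rfl⟩ := Ideal.Quotient.mk_surjective z₀
    obtain ⟨c₀, hc₀⟩ := key z hm₀
    have hu : IsUnit c₀ := by
      by_contra h
      exact hz₀ (Ideal.Quotient.eq_zero_iff_mem.2 ((hJ z).2 (hc₀.trans (hms c₀ h))))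
    obtain ⟨c₀, rfl⟩ := hu
    refine ⟨_, hz₀, hm₀, fun w hw => ?_⟩
    obtain ⟨w, rfl⟩ := Ideal.Quotient.mk_surjective w
    obtain ⟨c, hc⟩ := key w hw
    refine ⟨Ideal.Quotient.mk J (c * ↑c₀⁻¹), ?_⟩
    rw [← map_mul, Ideal.Quotient.eq, hJ, sub_mul, sub_eq_zero, mul_assoc, hc₀, hc,
      mul_assoc, Units.inv_mul_cancel_left]
  | succ d ih =>
    intro A _ _ _ f J hJ hne hf hIcm hd hdI
    haveI := hIcm
    have hJ' : ∀ y, y ∈ J ↔ ∀ i ∈ Ideal.span {f}, y * i = 0 := fun y => by
      rw [hJ]
      refine ⟨fun h i hi => ?_, fun h => h f (Ideal.mem_span_singleton_self f)⟩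
      obtain ⟨a, rfl⟩ := Ideal.mem_span_singleton'.1 hi
      rw [mul_left_comm, h, mul_zero]
    haveI hJcm := cm_quot_colon (d + 1) A (Ideal.span {f}) J hJ' hne hIcm hd hdI
    haveI := GorFlat.isLocalRing_quot (le_maximalIdeal hne)
    have hdJ : ringKrullDim (A ⧸ J) = ((d + 1 : ℕ) : WithBot ℕ∞) := by
      refine le_dim_quot_of_annihilated (I := J) (J := Ideal.span {f}) hJ' ?_ hd
      rw [Ne, Ideal.span_singleton_eq_bot]
      rintro rfl
      exact hne (eq_top_iff.2 fun y _ => (hJ y).2 (mul_zero y))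
    have hdA : LocCoh.depth A A = ((d + 1 : ℕ) : ℕ∞) := by
      obtain ⟨d', hd', hdep, -⟩ := Gor.exists_dim A
      rw [hd] at hd'
      rw [hdep]
      exact_mod_cast hd'.symm
    have hdepI := depth_eq_of_cm (Ideal.span {f}) hdI
    have hdepJ := depth_eq_of_cm J hdJ
    have hne' : ∀ (M : Type u) [AddCommGroup M] [Module A M] [Module.Finite A M],
        LocCoh.depth A M = ((d + 1 : ℕ) : ℕ∞) → ∀ P ∈ associatedPrimes A M, ¬ maximalIdeal A ≤ P :=
      fun M _ _ _ hk P hP hle => by
        have h0 := (CMBasics.depth_eq_zero_iff (M := M)).2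
          (((maximalIdeal.isMaximal A).eq_of_le hP.isPrime.ne_top hle) ▸ hP)
        rw [h0] at hk
        exact Nat.succ_ne_zero d (by exact_mod_cast hk.symm)
    obtain ⟨x, hx, hxP⟩ := exists_regular_avoid (maximalIdeal A) _
      (((associatedPrimes.finite A A).union (associatedPrimes.finite A (A ⧸ Ideal.span {f}))).union
        (associatedPrimes.finite A (A ⧸ J)))
      (fun P hP => hP.elim (fun h => h.elim (fun h => h.isPrime) fun h => h.isPrime) fun h => h.isPrime)
      (fun P hP => hP.elim (fun h => h.elim (hne' _ hdA P) (hne' _ hdepI P)) (hne' _ hdepJ P))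
    have hxA : IsSMulRegular A x := isSMulRegular_of_avoid fun P hP => hxP P (Or.inl (Or.inl hP))
    have hxI : IsSMulRegular (A ⧸ Ideal.span {f}) x := isSMulRegular_of_avoid fun P hP => hxP P (Or.inl (Or.inr hP))
    have hxJ : IsSMulRegular (A ⧸ J) x := isSMulRegular_of_avoid fun P hP => hxP P (Or.inr hP)
    haveI := Gor.isLocalRing_quotient hx hxA
    haveI := Gor.isGorensteinLocalRing_quotient hx hxA
    haveI : Subsingleton (CategoryTheory.Abelian.Ext (ModuleCat.of A (A ⧸ Ideal.span {f})) (ModuleCat.of A A) 1) :=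
      ext_vanish hd (d + 1) (A ⧸ Ideal.span {f}) hdepI.ge 1 (by omega)
    obtain ⟨hI1, hI2⟩ := cm_quot_span_mk (Ideal.span {f}) hx hxI hdI
    let π := Ideal.Quotient.mk (Ideal.span {x})
    have hspan : (Ideal.span {f}).map π = Ideal.span {π f} := by rw [Ideal.map_span, Set.image_singleton]
    have hJx : ∀ y, y ∈ J.map π ↔ y * π f = 0 := fun y => by
      rw [map_colon_iff hxA hJ' y, hspan]
      refine ⟨fun h => h _ (Ideal.mem_span_singleton_self _), fun h i hi => ?_⟩
      obtain ⟨a, rfl⟩ := Ideal.mem_span_singleton'.1 hi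
      rw [mul_left_comm, h, mul_zero]
    have hne2 : J.map π ≠ ⊤ := by
      intro ht
      refine (maximalIdeal.isMaximal A).ne_top (top_le_iff.1 ?_)
      have h1 := congrArg (Ideal.comap π) ht
      rw [Ideal.comap_top, Ideal.comap_map_of_surjective' π Ideal.Quotient.mk_surjective, Ideal.mk_ker] at h1
      rw [← h1]
      exact sup_le (le_maximalIdeal hne) ((Ideal.span_singleton_le_iff_mem _).2 hx)
    have hdA' : ringKrullDim (A ⧸ Ideal.span {x}) = (d : WithBot ℕ∞) := by
      have := ringKrullDim_quotient_span_singleton_succ_eq_ringKrullDim hxA hx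
      rw [hd] at this
      exact GrothLib.LC.eq_natCast_of_add_one_eq this
    rw [hspan] at hI1 hI2
    have hG := ih (A ⧸ Ideal.span {x}) (π f) (J.map π) hJx hne2 (GorFlat.mk_mem_maximalIdeal_iff.2 hf) hI1 hdA' hI2
    have hxJ' : Ideal.Quotient.mk J x ∈ maximalIdeal (A ⧸ J) := GorFlat.mk_mem_maximalIdeal_iff.2 hx
    have hxJr : IsSMulRegular (A ⧸ J) (Ideal.Quotient.mk J x) := fun a b hab => hxJ (by
      simpa [Algebra.smul_def] using hab)
    refine (GorFlat.gorenstein_quot_iff hxJ' hxJr).1 ?_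
    exact (GorFlat.gorenstein_congr ((DoubleQuot.quotQuotEquivComm (Ideal.span {x}) J).trans
      (Ideal.quotEquivOfEq (by rw [Ideal.map_span, Set.image_singleton])))).1 hG

/-- A height-`c` ideal generated by `c` elements in a Cohen–Macaulay ring with Gorenstein local rings
has Gorenstein quotient. -/
theorem isGorensteinRing_quot_of_height {R : Type u} [CommRing R] [hR : LocCoh.IsGorensteinRing R] {c : ℕ}
    (g : Fin c → R) (h : (Ideal.span (Set.range g)).height = c) :
    LocCoh.IsGorensteinRing (R ⧸ Ideal.span (Set.range g)) := by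
  haveI : IsNoetherianRing R := hR.toIsNoetherian
  refine { isGorensteinLocalRing_localization := fun q _ => ?_ }
  obtain ⟨e⟩ := nonempty_localization_quot (Ideal.Quotient.mk (Ideal.span (Set.range g))) Ideal.Quotient.mk_surjective q
  let Q := q.comap (Ideal.Quotient.mk (Ideal.span (Set.range g)))
  let L := Localization.AtPrime Q
  haveI hL := hR.isGorensteinLocalRing_localization Q
  haveI := Gor.isCohenMacaulayLocalRing L
  have hcQ : Ideal.span (Set.range g) ≤ Q := fun y hy => by
    rw [Ideal.mem_comap, Ideal.Quotient.eq_zero_iff_mem.2 hy]; exact zero_mem _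
  let rs : List L := List.ofFn fun i => algebraMap R L (g i)
  have hrs : Ideal.ofList rs = (Ideal.span (Set.range g)).map (algebraMap R L) := by
    rw [Ideal.map_span, ← Set.range_comp]
    simp [Ideal.ofList, rs, List.mem_ofFn, Set.range, Function.comp_def]
  have hmem : ∀ r ∈ rs, r ∈ maximalIdeal L := fun r hr => by
    rw [← Localization.AtPrime.map_eq_maximalIdeal]
    exact Ideal.map_mono hcQ (hrs.le (Ideal.subset_span hr))
  have hne : Ideal.ofList rs ≠ ⊤ := fun h => (maximalIdeal.isMaximal L).ne_top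
    (top_le_iff.1 (h.ge.trans (Ideal.span_le.2 hmem)))
  obtain ⟨N, hN⟩ := GorFlat.exists_dim_nat L
  have hge : (c : ℕ∞) ≤ (Ideal.ofList rs).height := by
    rw [hrs, Ideal.height_eq_inf_minimalPrimes ((Ideal.span (Set.range g)).map (algebraMap R L))]
    refine le_iInf₂ fun P hP => ?_
    haveI := hP.1.1
    rw [← h, ← IsLocalization.height_under Q.primeCompl P]
    exact Ideal.height_mono (Ideal.map_le_iff_le_comap.1 hP.1.2)
  have hle : (Ideal.ofList rs).height ≤ c := by
    refine (Ideal.height_le_spanFinrank _ hne).trans ?_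
    rw [hrs]
    exact Nat.cast_le.2 (((Ideal.spanFinrank_map_le_of_fg (algebraMap R L) (IsNoetherian.noetherian _)).trans
      (Submodule.spanFinrank_span_le_ncard_of_finite (Set.finite_range g))).trans
      (by rw [← Set.image_univ]; exact (Set.ncard_image_le Set.finite_univ).trans (by simp)))
  haveI : Nontrivial (L ⧸ Ideal.ofList rs) := Ideal.Quotient.nontrivial_iff.2 hne
  haveI := GorFlat.isLocalRing_quot (le_maximalIdeal hne)
  obtain ⟨d, hd⟩ := GorFlat.exists_dim_nat (L ⧸ Ideal.ofList rs)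
  have hsum := GrothLib.CanonMod.height_add_dim_quotient (Ideal.ofList rs) hne (le_antisymm hle hge) hd hN
  have hreg : RingTheory.Sequence.IsWeaklyRegular L rs := by
    refine (CMBasics.isWeaklyRegular_iff LocCoh.IsCohenMacaulayLocalRing.supportDim_eq_depth rs hmem).1.2 ?_
    rw [Module.supportDim_eq_of_equiv (Submodule.quotEquivOfEq _ (Ideal.ofList rs) (by rw [smul_eq_mul, Ideal.mul_top])),
      Module.supportDim_quotient_eq_ringKrullDim, Module.supportDim_self_eq_ringKrullDim, hd, hN, List.length_ofFn]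
    exact_mod_cast (show d + c = N by omega)
  exact (GorFlat.gorenstein_congr ((Ideal.quotEquivOfEq (by rw [hrs, Ideal.mk_ker])).trans e)).1
    ((GorFlat.gorenstein_quot_ofList rs hreg hmem).2 hL)

/-- The ring statement for a principal link. -/
theorem isGorensteinRing_quot_annihilator {B : Type u} [CommRing B] [hB : LocCoh.IsGorensteinRing B]
    {f : B} {J : Ideal B} (hJ : ∀ y, y ∈ J ↔ y * f = 0) [LocCoh.IsCohenMacaulayRing (B ⧸ Ideal.span {f})]
    (hmin : ∀ P ∈ (Ideal.span {f}).minimalPrimes, P ∈ minimalPrimes B) : LocCoh.IsGorensteinRing (B ⧸ J) := by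
  haveI : IsNoetherianRing B := hB.toIsNoetherian
  refine { isGorensteinLocalRing_localization := fun q _ => ?_ }
  obtain ⟨e⟩ := nonempty_localization_quot (Ideal.Quotient.mk J) Ideal.Quotient.mk_surjective q
  let Q := q.comap (Ideal.Quotient.mk J)
  let A := Localization.AtPrime Q
  haveI hA := hB.isGorensteinLocalRing_localization Q
  have hJQ : J ≤ Q := fun y hy => by
    rw [Ideal.mem_comap, Ideal.Quotient.eq_zero_iff_mem.2 hy]; exact zero_mem _
  have hJ' : ∀ y, y ∈ J ↔ ∀ i ∈ Ideal.span {f}, y * i = 0 := fun y => by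
    rw [hJ]
    refine ⟨fun h i hi => ?_, fun h => h f (Ideal.mem_span_singleton_self f)⟩
    obtain ⟨a, rfl⟩ := Ideal.mem_span_singleton'.1 hi
    rw [mul_left_comm, h, mul_zero]
  have hJA : ∀ y : A, y ∈ J.map (algebraMap B A) ↔ y * algebraMap B A f = 0 := fun y => by
    rw [mem_map_colon_iff Q.primeCompl hJ' y, Ideal.map_span, Set.image_singleton]
    refine ⟨fun h => h _ (Ideal.mem_span_singleton_self _), fun h i hi => ?_⟩
    obtain ⟨a, rfl⟩ := Ideal.mem_span_singleton'.1 hi
    rw [mul_left_comm, h, mul_zero]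
  have hJne : J.map (algebraMap B A) ≠ ⊤ := fun ht => (maximalIdeal.isMaximal A).ne_top (top_le_iff.1 (by
    rw [← ht, ← Localization.AtPrime.map_eq_maximalIdeal]; exact Ideal.map_mono hJQ))
  have hG : LocCoh.IsGorensteinLocalRing (A ⧸ J.map (algebraMap B A)) := by
    by_cases hf : f ∈ Q
    · have hfm : algebraMap B A f ∈ maximalIdeal A := (IsLocalization.AtPrime.to_map_mem_maximal_iff A Q f).2 hf
      have hspan : (Ideal.span {f}).map (algebraMap B A) = Ideal.span {algebraMap B A f} := by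
        rw [Ideal.map_span, Set.image_singleton]
      have hcm := isCohenMacaulayLocalRing_quot_map (Ideal.span {f}) Q ((Ideal.span_singleton_le_iff_mem _).2 hf)
      rw [hspan] at hcm
      obtain ⟨d, hd, hdep, -⟩ := Gor.exists_dim A
      refine gorenstein_quot_annihilator d A (algebraMap B A f) _ hJA hJne hfm hcm hd
        (le_antisymm ((ringKrullDim_quotient_le _).trans hd.le) ?_)
      obtain ⟨P, hP, hPQ⟩ := Ideal.exists_minimalPrimes_le (I := Ideal.span {f}) ((Ideal.span_singleton_le_iff_mem Q).2 hf)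
      haveI := hP.1.1
      have hPmin := hmin P hP
      have hdisj : Disjoint (Q.primeCompl : Set B) (P : Set B) := Set.disjoint_left.2 fun x hx hxP => hx (hPQ hxP)
      haveI : (P.map (algebraMap B A)).IsPrime :=
        IsLocalization.isPrime_of_isPrime_disjoint Q.primeCompl A P inferInstance hdisj
      have hPA : P.map (algebraMap B A) ∈ associatedPrimes A A := by
        refine Module.associatedPrimes.minimalPrimes_annihilator_subset_associatedPrimes A A ?_
        rw [Module.annihilator_eq_bot.2 inferInstance]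
        refine ⟨⟨inferInstance, bot_le⟩, fun P' hP' hle => ?_⟩
        haveI := hP'.1
        refine Ideal.map_le_iff_le_comap.2 (hPmin.2 ⟨inferInstance, bot_le⟩ ?_)
        exact (Ideal.comap_mono hle).trans_eq
          (IsLocalization.comap_map_of_isPrime_disjoint Q.primeCompl A inferInstance hdisj)
      have hd' := GrothLib.Depth.depth_le_dim_quotient hPA
      rw [hdep] at hd'
      refine le_trans (by exact_mod_cast hd') (ringKrullDim_le_of_surjective
        (Ideal.Quotient.factor ((Ideal.span_singleton_le_iff_mem _).2 ?_)) (Ideal.Quotient.factor_surjective _))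
      exact Ideal.mem_map_of_mem _ (hP.1.2 (Ideal.mem_span_singleton_self f))
    · have hu : IsUnit (algebraMap B A f) := IsLocalization.map_units A (⟨f, hf⟩ : Q.primeCompl)
      have h0 : J.map (algebraMap B A) = ⊥ := eq_bot_iff.2 fun y hy =>
        Ideal.mem_bot.2 (hu.mul_left_eq_zero.1 ((hJA y).1 hy))
      exact (GorFlat.gorenstein_congr ((RingEquiv.quotientBot A).symm.trans (Ideal.quotEquivOfEq h0.symm))).1 hA
  exact (GorFlat.gorenstein_congr ((Ideal.quotEquivOfEq (by rw [Ideal.mk_ker])).trans e)).1 hG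

end GrothLib.LiaisonCM

namespace GrothLib.LiaisonCM

/-- The quotient by `c : I` for `I = c + (f)`. -/
theorem isGorensteinRing_quot_colon {R : Type u} [CommRing R] (c I J : Ideal R) (f : R)
    [LocCoh.IsGorensteinRing (R ⧸ c)] [LocCoh.IsCohenMacaulayRing (R ⧸ I)]
    (hIf : I = c ⊔ Ideal.span {f}) (hJ : ∀ y, y ∈ J ↔ y * f ∈ c) (hcJ : c ≤ J)
    (hmin : ∀ P ∈ I.minimalPrimes, P ∈ c.minimalPrimes) : LocCoh.IsGorensteinRing (R ⧸ J) := by
  let π := Ideal.Quotient.mk c
  have hJ' : ∀ y, y ∈ J.map π ↔ y * π f = 0 := fun y => by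
    obtain ⟨y, rfl⟩ := Ideal.Quotient.mk_surjective y
    rw [← Ideal.mem_comap, Ideal.comap_map_of_surjective' π Ideal.Quotient.mk_surjective, Ideal.mk_ker,
      sup_eq_left.2 hcJ, hJ, ← map_mul, Ideal.Quotient.eq_zero_iff_mem]
  have hI : I.map π = Ideal.span {π f} := by
    rw [hIf, Ideal.map_sup, Ideal.map_quotient_self, bot_sup_eq, Ideal.map_span, Set.image_singleton]
  haveI : LocCoh.IsCohenMacaulayRing ((R ⧸ c) ⧸ Ideal.span {π f}) :=
    isCohenMacaulayRing_of_ringEquiv (A := R ⧸ I) ((DoubleQuot.quotQuotEquivQuotOfLE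
      (hIf ▸ le_sup_left : c ≤ I)).symm.trans (Ideal.quotEquivOfEq hI))
  refine GorFlat.isGorensteinRing_of_ringEquiv (DoubleQuot.quotQuotEquivQuotOfLE hcJ)
    (isGorensteinRing_quot_annihilator hJ' fun P hP => ?_)
  rw [← hI] at hP
  haveI := hP.1.1
  have hk : RingHom.ker π ≤ P.comap π := fun x hx => by rw [Ideal.mem_comap, RingHom.mem_ker.1 hx]; exact zero_mem _
  have h1 : P.comap π ∈ I.minimalPrimes := by
    refine ⟨⟨inferInstance, Ideal.map_le_iff_le_comap.1 hP.1.2⟩, fun Q hQ hle => ?_⟩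
    have hkQ : RingHom.ker π ≤ Q := (Ideal.mk_ker (I := c)).le.trans ((hIf ▸ le_sup_left : c ≤ I).trans hQ.2)
    haveI := hQ.1
    haveI : (Q.map π).IsPrime := Ideal.map_isPrime_of_surjective Ideal.Quotient.mk_surjective hkQ
    have := Ideal.comap_mono (f := π) (hP.2 ⟨inferInstance, Ideal.map_mono hQ.2⟩ (Ideal.map_le_iff_le_comap.2 hle))
    rwa [GrothLib.Faltings.comap_map_eq Ideal.Quotient.mk_surjective hkQ] at this
  have h2 := hmin _ h1
  refine ⟨⟨inferInstance, bot_le⟩, fun Q hQ hle => ?_⟩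
  haveI := hQ.1
  have := Ideal.map_mono (f := π) (h2.2 ⟨inferInstance, fun x hx => by
    rw [Ideal.mem_comap, Ideal.Quotient.eq_zero_iff_mem.2 hx]; exact zero_mem _⟩ (Ideal.comap_mono hle))
  rwa [Ideal.map_comap_of_surjective π Ideal.Quotient.mk_surjective,
    Ideal.map_comap_of_surjective π Ideal.Quotient.mk_surjective] at this

end GrothLib.LiaisonCM
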