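import Groth.Agent.Lib.LiaisonCM.Basic
import Groth.Agent.Lib.GrSyz.Basic
import Groth.Agent.Lib.LC.Seq
import Groth.Agent.Lib.LC.Torsion
import Groth.Agent.Lib.Depth.Basic

/-!
# Basic double links
-/

set_option autoImplicit false
set_option linter.style.haveILetI false
universe u

open IsLocalRing CategoryTheory

namespace GrothLib.LiaisonCM

theorem isCohenMacaulayRing_of_ringEquiv {A B : Type u} [CommRing A] [CommRing B] (e : A ≃+* B)
    [hA : LocCoh.IsCohenMacaulayRing A] : LocCoh.IsCohenMacaulayRing B := by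
  haveI := isNoetherianRing_of_ringEquiv A e
  refine { isCohenMacaulayLocalRing_localization := fun q _ => ?_ }
  obtain ⟨e'⟩ := nonempty_localization_quot (e : A →+* B) e.surjective q
  haveI := hA.isCohenMacaulayLocalRing_localization (q.comap (e : A →+* B))
  exact cm_of_ringEquiv (R := Localization.AtPrime (q.comap (e : A →+* B))) (((RingEquiv.quotientBot _).symm.trans
    (Ideal.quotEquivOfEq (by
      rw [(RingHom.injective_iff_ker_eq_bot (e : A →+* B)).1 e.injective, Ideal.map_bot]))).trans e')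

variable {K : Type u} [Field K] {n : ℕ}

set_option quotPrecheck false in
local notation "P" => MvPolynomial (Fin (n + 1)) K

variable {h : ℕ} {J I : Ideal (MvPolynomial (Fin (n + 1)) K)} {f : MvPolynomial (Fin (n + 1)) K}

theorem sup_span_mul_le {A : Type*} [CommRing A] (J I : Ideal A) (f : A) :
    J ⊔ Ideal.span {f} * I ≤ J ⊔ Ideal.span {f} :=
  sup_le_sup le_rfl Ideal.mul_le_left

theorem le_succ_dim_quot {L : Type u} [CommRing L] [IsLocalRing L] [IsNoetherianRing L] (c : Ideal L) (x : L)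
    (hc : c ≤ maximalIdeal L) (hx : x ∈ maximalIdeal L) {e e' : ℕ} (he : ringKrullDim (L ⧸ c) = e)
    (he' : ringKrullDim (L ⧸ (c ⊔ Ideal.span {x})) = e') : e ≤ e' + 1 := by
  classical
  haveI : Nontrivial (L ⧸ c) := Ideal.Quotient.nontrivial_iff.2 fun h =>
    (maximalIdeal.isMaximal L).ne_top (top_le_iff.1 (h.ge.trans hc))
  haveI : IsLocalRing (L ⧸ c) := IsLocalRing.of_surjective' (Ideal.Quotient.mk _) Ideal.Quotient.mk_surjective
  have h5 := ringKrullDim_le_ringKrullDim_quotient_add_card ({Ideal.Quotient.mk c x} : Finset (L ⧸ c))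
    (by
      rw [Finset.coe_singleton, Set.singleton_subset_iff, IsLocalRing.ringJacobson_eq_maximalIdeal,
        SetLike.mem_coe, ← GrothLib.RegLoc.map_maximalIdeal_quotient c]
      exact Ideal.mem_map_of_mem _ hx)
  have h6 : ringKrullDim ((L ⧸ c) ⧸ Ideal.span (({Ideal.Quotient.mk c x} : Finset (L ⧸ c)) : Set (L ⧸ c))) = e' := by
    rw [← he']
    exact ringKrullDim_eq_of_ringEquiv ((Ideal.quotEquivOfEq (by
      rw [Finset.coe_singleton, Ideal.map_span, Set.image_singleton])).trans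
        (DoubleQuot.quotQuotEquivQuotSup c (Ideal.span {x})))
  rw [Finset.card_singleton, he, h6] at h5
  exact_mod_cast h5

theorem isCohenMacaulayRing_quot_sup {A : Type u} [CommRing A] (J : Ideal A) (f : A)
    [LocCoh.IsCohenMacaulayRing (A ⧸ J)] (hreg : IsSMulRegular (A ⧸ J) (Ideal.Quotient.mk J f)) :
    LocCoh.IsCohenMacaulayRing (A ⧸ (J ⊔ Ideal.span {f})) := by
  haveI := isCohenMacaulayRing_quot_span hreg
  exact isCohenMacaulayRing_of_ringEquiv (A := (A ⧸ J) ⧸ Ideal.span {Ideal.Quotient.mk J f})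
    ((Ideal.quotEquivOfEq (by rw [Ideal.map_span, Set.image_singleton])).trans
      (DoubleQuot.quotQuotEquivQuotSup J (Ideal.span {f})))

theorem mem_of_mul_mem (hJf : J.colon {f} = J) {x : P} (hx : x * f ∈ J) : x ∈ J := by
  rw [← hJf, Submodule.mem_colon_singleton]
  exact hx

theorem isSMulRegular_mk (hJf : J.colon {f} = J) : IsSMulRegular (P ⧸ J) (Ideal.Quotient.mk J f) := by
  refine isSMulRegular_iff_right_eq_zero_of_smul.2 fun z hz => ?_
  obtain ⟨x, rfl⟩ := Ideal.Quotient.mk_surjective z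
  rw [smul_eq_mul, ← map_mul, Ideal.Quotient.eq_zero_iff_mem, mul_comm] at hz
  exact Ideal.Quotient.eq_zero_iff_mem.2 (mem_of_mul_mem hJf hz)

theorem height_sup_span_ge (hJh : J.height = h) (hJf : J.colon {f} = J) :
    (h : ℕ∞) + 1 ≤ (J ⊔ Ideal.span {f}).height := by
  rw [Ideal.height_eq_inf_minimalPrimes]
  refine le_iInf₂ fun Q hQ => ?_
  haveI := hQ.1.1
  obtain ⟨Q₀, hQ₀, hle⟩ := Ideal.exists_minimalPrimes_le (le_sup_left.trans hQ.1.2)
  haveI := hQ₀.1.1
  have hfQ : f ∈ Q := hQ.1.2 (Ideal.mem_sup_right (Ideal.mem_span_singleton_self f))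
  have hf₀ : f ∉ Q₀ := fun hfQ₀ => by
    have hmem : Q₀ ∈ associatedPrimes P (P ⧸ J) :=
      Module.associatedPrimes.minimalPrimes_annihilator_subset_associatedPrimes _ _
        (by rwa [Ideal.annihilator_quotient])
    obtain ⟨-, x, hx⟩ := isAssociatedPrime_iff.1 hmem
    obtain ⟨x, rfl⟩ := Submodule.Quotient.mk_surjective J x
    rw [hx, Submodule.mem_colon_singleton, Submodule.mem_bot, ← Submodule.Quotient.mk_smul,
      Submodule.Quotient.mk_eq_zero, smul_eq_mul, mul_comm] at hfQ₀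
    apply hQ₀.1.1.ne_top
    rw [hx, (Submodule.Quotient.mk_eq_zero J).2 (mem_of_mul_mem hJf hfQ₀), eq_top_iff]
    intro r _
    rw [Submodule.mem_colon_singleton, smul_zero]
    exact zero_mem _
  have hlt : Q₀ < Q := lt_of_le_of_ne hle fun e => hf₀ (e ▸ hfQ)
  exact (add_le_add (hJh ▸ Ideal.height_mono hQ₀.1.2) le_rfl).trans (Ideal.height_add_one_le_of_lt_of_isPrime hlt)

/-- The hyperplane section `J + (f)`: unmixed of height `h + 1` and of depth at least `n - h`. -/
theorem section_facts {d : ℕ} (hJ : J.IsHomogeneous (GrSyz.stdGr K (Fin (n + 1)))) (hJh : J.height = h)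
    [LocCoh.IsCohenMacaulayRing (P ⧸ J)]
    (hf : f ∈ GrSyz.stdGr K (Fin (n + 1)) (d : ℤ)) (hJf : J.colon {f} = J) :
    (∀ Q ∈ associatedPrimes P (P ⧸ (J ⊔ Ideal.span {f})), Q.height = h + 1) ∧
      ∀ k : ℕ, k + h ≤ n → (k : ℕ∞) ≤ LocCoh.idealDepth (irr K n) (P ⧸ (J ⊔ Ideal.span {f})) := by
  by_cases htop : J ⊔ Ideal.span {f} = ⊤
  · haveI : Subsingleton (P ⧸ (J ⊔ Ideal.span {f})) := Ideal.Quotient.subsingleton_iff.2 htop
    refine ⟨fun Q hQ => ?_, fun k _ => ?_⟩
    · rw [associatedPrimes.eq_empty_of_subsingleton] at hQ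
      exact hQ.elim
    · rw [LocCoh.idealDepth, if_pos (Subsingleton.elim _ _)]
      exact le_top
  haveI : LocCoh.IsCohenMacaulayRing (P ⧸ (J ⊔ Ideal.span {f})) :=
    isCohenMacaulayRing_quot_sup J f (isSMulRegular_mk hJf)
  have hJ' : (J ⊔ Ideal.span {f}).IsHomogeneous (GrSyz.stdGr K (Fin (n + 1))) :=
    Ideal.IsHomogeneous.sup hJ (Ideal.homogeneous_span _ _ fun r hr => ⟨d, (Set.mem_singleton_iff.1 hr).symm ▸ hf⟩)
  obtain ⟨g, e, hge, hgJ, he, -, -⟩ := exists_dim hJ (ne_top_of_le_ne_top htop le_sup_left)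
  obtain ⟨g', e', hge', hgJ', he', hass, hdep⟩ := exists_dim hJ' htop
  rw [hJh] at hgJ
  have hgh : h = g := by exact_mod_cast hgJ
  subst hgh
  have h1 : h + 1 ≤ g' := by
    have := height_sup_span_ge hJh hJf
    rw [hgJ'] at this
    exact_mod_cast this
  have h2 : e ≤ e' + 1 := by
    set L := Localization.AtPrime (irr K n) with hL
    rw [Ideal.map_sup, Ideal.map_span, Set.image_singleton] at he'
    refine le_succ_dim_quot _ _ ?_ ?_ he he'
    · rw [← Localization.AtPrime.map_eq_maximalIdeal]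
      exact Ideal.map_mono (le_irr hJ (ne_top_of_le_ne_top htop le_sup_left))
    · exact (IsLocalization.AtPrime.to_map_mem_maximal_iff L (irr K n) f).2
        (le_irr hJ' htop (Ideal.mem_sup_right (Ideal.mem_span_singleton_self f)))
  refine ⟨fun Q hQ => by rw [hass Q hQ]; exact_mod_cast (show g' = h + 1 by omega), fun k hk => le_trans ?_ hdep⟩
  exact_mod_cast (show k ≤ e' by omega)

variable (hJI : J ≤ I) (hJf : J.colon {f} = J)
include hJI hJf

theorem mul_mem_iff (r : P) : f * r ∈ J ⊔ Ideal.span {f} * I ↔ r ∈ I := by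
  refine ⟨fun hr => ?_, fun hr => Ideal.mem_sup_right (Ideal.mul_mem_mul (Ideal.mem_span_singleton_self f) hr)⟩
  obtain ⟨j, hj, s, hs, hjs⟩ := Submodule.mem_sup.1 hr
  obtain ⟨i, hi, rfl⟩ := Ideal.mem_span_singleton_mul.1 hs
  have : (r - i) * f ∈ J := by
    rw [show (r - i) * f = j by linear_combination -hjs]
    exact hj
  simpa using add_mem (hJI (mem_of_mul_mem hJf this)) hi

omit hJI hJf in
variable (J I f) in
/-- Multiplication by `f`, from `P/I` to `P/(J + fI)`. -/
noncomputable def linkMap : (P ⧸ I) →ₗ[P] (P ⧸ (J ⊔ Ideal.span {f} * I)) :=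
  Submodule.mapQ I (J ⊔ Ideal.span {f} * I) (LinearMap.lsmul P P f)
    fun _ hr => Ideal.mem_sup_right (Ideal.mul_mem_mul (Ideal.mem_span_singleton_self f) hr)

omit hJI hJf in
variable (J I f) in
/-- The projection `P/(J + fI) → P/(J + (f))`. -/
noncomputable def linkProj : (P ⧸ (J ⊔ Ideal.span {f} * I)) →ₗ[P] (P ⧸ (J ⊔ Ideal.span {f})) :=
  Submodule.mapQ (J ⊔ Ideal.span {f} * I) (J ⊔ Ideal.span {f}) LinearMap.id
    fun _ hr => sup_span_mul_le J I f hr

theorem linkMap_injective : Function.Injective (linkMap J I f) := by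
  refine (injective_iff_map_eq_zero _).2 fun z hz => ?_
  obtain ⟨r, rfl⟩ := Submodule.Quotient.mk_surjective _ z
  rw [linkMap, Submodule.mapQ_apply, Submodule.Quotient.mk_eq_zero] at hz
  exact (Submodule.Quotient.mk_eq_zero I).2 ((mul_mem_iff hJI hJf r).1 hz)

omit hJI hJf in
theorem exact_linkMap : Function.Exact (linkMap J I f) (linkProj J I f) := by
  intro z
  obtain ⟨r, rfl⟩ := Submodule.Quotient.mk_surjective _ z
  rw [linkProj, Submodule.mapQ_apply, LinearMap.id_apply, Submodule.Quotient.mk_eq_zero]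
  constructor
  · intro hr
    obtain ⟨j, hj, s, hs, rfl⟩ := Submodule.mem_sup.1 hr
    obtain ⟨a, rfl⟩ := Ideal.mem_span_singleton'.1 hs
    refine ⟨Submodule.Quotient.mk a, ?_⟩
    rw [linkMap, Submodule.mapQ_apply, Submodule.Quotient.eq]
    refine Ideal.mem_sup_left ?_
    rw [show LinearMap.lsmul P P f a - (j + a * f) = -j by simp [mul_comm]]
    exact J.neg_mem hj
  · rintro ⟨w, hw⟩
    obtain ⟨a, rfl⟩ := Submodule.Quotient.mk_surjective _ w
    rw [linkMap, Submodule.mapQ_apply, Submodule.Quotient.eq] at hw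
    have h1 : f * a - r ∈ J ⊔ Ideal.span {f} := sup_span_mul_le J I f hw
    have h2 : f * a ∈ J ⊔ Ideal.span {f} := Ideal.mem_sup_right (Ideal.mul_mem_right a _ (Ideal.mem_span_singleton_self f))
    simpa using sub_mem h2 h1

/-- The unmixedness of a basic double link. -/
theorem unmixed_iff {d : ℕ} (hJ : J.IsHomogeneous (GrSyz.stdGr K (Fin (n + 1)))) (hJh : J.height = h)
    [LocCoh.IsCohenMacaulayRing (P ⧸ J)] (hf : f ∈ GrSyz.stdGr K (Fin (n + 1)) (d : ℤ)) :
    (∀ p ∈ associatedPrimes P (P ⧸ I), p.height = h + 1) ↔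
      ∀ p ∈ associatedPrimes P (P ⧸ (J ⊔ Ideal.span {f} * I)), p.height = h + 1 := by
  refine ⟨fun H p hp => ?_, fun H p hp => H p (associatedPrimes.subset_of_injective (linkMap_injective hJI hJf) hp)⟩
  rcases associatedPrimes.subset_union_of_exact (linkMap_injective hJI hJf) exact_linkMap hp with hp | hp
  · exact H p hp
  · exact (section_facts hJ hJh hf hJf).1 p hp

/-- Local cohomology below `dim R/I` does not change under a basic double link. -/
theorem nonempty_localCohomology_equiv {d : ℕ} (hJ : J.IsHomogeneous (GrSyz.stdGr K (Fin (n + 1))))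
    (hJh : J.height = h) [LocCoh.IsCohenMacaulayRing (P ⧸ J)]
    (hf : f ∈ GrSyz.stdGr K (Fin (n + 1)) (d : ℤ)) (i : ℕ) (hi : i + h < n) :
    Nonempty (LocCoh.H (irr K n) i (P ⧸ I) ≃ₗ[P] LocCoh.H (irr K n) i (P ⧸ (J ⊔ Ideal.span {f} * I))) := by
  let S : ShortComplex (ModuleCat.{u} P) := ShortComplex.mk (ModuleCat.ofHom (linkMap J I f))
    (ModuleCat.ofHom (linkProj J I f)) (ModuleCat.hom_ext exact_linkMap.linearMap_comp_eq_zero)
  have hS : S.ShortExact :=
    { exact := (ShortComplex.moduleCat_exact_iff _).2 fun x hx => (exact_linkMap x).1 hx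
      mono_f := (ModuleCat.mono_iff_injective _).2 (linkMap_injective hJI hJf)
      epi_g := (ModuleCat.epi_iff_surjective _).2 fun z => by
        obtain ⟨r, rfl⟩ := Submodule.Quotient.mk_surjective _ z
        refine ⟨Submodule.Quotient.mk r, ?_⟩
        show linkProj J I f (Submodule.Quotient.mk r) = _
        rw [linkProj, Submodule.mapQ_apply, LinearMap.id_apply] }
  have hvan : ∀ j, j + h < n → Subsingleton ((localCohomology (irr K n) j).obj S.X₃) := fun j hj =>
    (GrothLib.Depth.le_idealDepth_iff_H (M := P ⧸ (J ⊔ Ideal.span {f})) (irr K n) (j + 1)).1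
      ((section_facts hJ hJh hf hJf).2 (j + 1) (by omega)) j (Nat.lt_succ_self j)
  have hinj : Function.Injective ((localCohomology (irr K n) i).map S.f) := by
    rcases i with _ | i
    · exact GrothLib.LC.map_zero_injective _ S.f (linkMap_injective hJI hJf)
    · refine (injective_iff_map_eq_zero ((localCohomology (irr K n) (i + 1)).map S.f).hom).2 fun x hx => ?_
      obtain ⟨y, rfl⟩ := GrothLib.LC.exists_of_map_f_eq_zero (irr K n) hS i hx
      haveI := hvan i (by omega)
      rw [Subsingleton.elim y 0, map_zero]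
  have hsurj : Function.Surjective ((localCohomology (irr K n) i).map S.f) := fun x => by
    haveI := hvan i hi
    exact GrothLib.LC.exists_of_map_g_eq_zero (irr K n) hS i (Subsingleton.elim _ _)
  exact ⟨LinearEquiv.ofBijective ((localCohomology (irr K n) i).map S.f).hom ⟨hinj, hsurj⟩⟩

end GrothLib.LiaisonCM
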