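import Groth.Agent.Lib.LiaisonCM.Linked
import Groth.Agent.Lib.LiaisonCM.DoubleLink

/-!
# Linked quotients of a Gorenstein ring
-/

set_option autoImplicit false
set_option linter.style.haveILetI false
universe u

open IsLocalRing

namespace GrothLib.LiaisonCM

theorem mem_map_colon_iff {B L : Type u} [CommRing B] [IsNoetherianRing B] [CommRing L] [Algebra B L]
    (M : Submonoid B) [IsLocalization M L] {I J : Ideal B} (h : ∀ y, y ∈ J ↔ ∀ i ∈ I, y * i = 0) (y : L) :
    y ∈ J.map (algebraMap B L) ↔ ∀ i ∈ I.map (algebraMap B L), y * i = 0 := by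
  classical
  constructor
  · intro hy i hi
    have h1 : (J.map (algebraMap B L)) * (I.map (algebraMap B L)) = ⊥ := by
      rw [← Ideal.map_mul, ← le_bot_iff, ← Ideal.map_bot (f := algebraMap B L)]
      exact Ideal.map_mono (Ideal.mul_le.2 fun a ha b hb => Ideal.mem_bot.2 ((h a).1 ha b hb))
    exact Ideal.mem_bot.1 (h1 ▸ Ideal.mul_mem_mul hy hi)
  · intro hy
    obtain ⟨⟨b, s⟩, hb⟩ := IsLocalization.surj M y
    obtain ⟨G, hG⟩ := (IsNoetherian.noetherian I)
    have hG' : ∀ g ∈ G, g ∈ I := fun g hg => hG ▸ Submodule.subset_span hg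
    have ht : ∀ g : G, ∃ t : M, (t : B) * (b * g) = 0 := fun g => by
      refine (IsLocalization.map_eq_zero_iff M L (b * (g : B))).1 ?_
      rw [map_mul, ← hb, mul_right_comm, hy _ (Ideal.mem_map_of_mem _ (hG' g g.2)), zero_mul]
    choose t ht using ht
    have hJ : ((∏ g : G, t g : M) : B) * b ∈ J := by
      refine (h _).2 fun i hi => ?_
      rw [← hG] at hi
      refine Submodule.span_induction ?_ (mul_zero _) (fun x z _ _ hx hz => by rw [mul_add, hx, hz, add_zero])
        (fun r x _ hx => by rw [smul_eq_mul, mul_left_comm, hx, mul_zero]) hi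
      intro g hg
      rw [Submonoid.coe_finsetProd, ← Finset.mul_prod_erase Finset.univ _ (Finset.mem_univ ⟨g, hg⟩)]
      linear_combination (∏ g' ∈ Finset.univ.erase (⟨g, hg⟩ : G), (t g' : B)) * (ht ⟨g, hg⟩)
    have h2 := Ideal.mem_map_of_mem (algebraMap B L) hJ
    rw [map_mul, ← hb] at h2
    obtain ⟨u, hu⟩ := (IsLocalization.map_units L (∏ g : G, t g)).mul (IsLocalization.map_units L s)
    have h3 := Ideal.mul_mem_left _ (↑u⁻¹ : L) h2
    rwa [show (↑u⁻¹ : L) * (algebraMap B L ((∏ g : G, t g : M) : B) * (y * algebraMap B L s)) =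
      (↑u⁻¹ * ↑u) * y by rw [hu]; ring, Units.inv_mul, one_mul] at h3

/-- The local step: either `A/I` is zero or it is Cohen–Macaulay of full dimension. -/
theorem cm_quot_colon_local {A : Type u} [CommRing A] [IsLocalRing A] [LocCoh.IsGorensteinLocalRing A]
    {I J : Ideal A} (h : ∀ y, y ∈ J ↔ ∀ i ∈ I, y * i = 0) (h' : ∀ y, y ∈ I ↔ ∀ j ∈ J, y * j = 0)
    (hJne : J ≠ ⊤) (hI : I ≠ ⊤ → LocCoh.IsCohenMacaulayLocalRing (A ⧸ I)) :
    LocCoh.IsCohenMacaulayLocalRing (A ⧸ J) := by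
  haveI := Gor.isCohenMacaulayLocalRing A
  by_cases hJ0 : J = ⊥
  · subst hJ0
    exact cm_of_ringEquiv (RingEquiv.quotientBot A).symm
  have hIne : I ≠ ⊤ := fun hI' => hJ0 <| by
    rw [eq_bot_iff]
    intro y hy
    simpa using (h y).1 hy 1 (hI' ▸ Submodule.mem_top)
  obtain ⟨d, hd, hdep, -⟩ := Gor.exists_dim A
  refine cm_quot_colon d A I J h hJne (hI hIne) hd (le_antisymm ((ringKrullDim_quotient_le I).trans hd.le) ?_)
  obtain ⟨j, hj, hj0⟩ := J.ne_bot_iff.1 hJ0
  have hsub : (I : Set A) ⊆ ⋃ P ∈ associatedPrimes A A, (P : Set A) := fun i hi => by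
    rw [biUnion_associatedPrimes_eq_compl_regular]
    exact fun hreg => hj0 (hreg.right_eq_zero_of_smul (by rw [smul_eq_mul]; exact (h' i).1 hi j hj))
  have hfin := associatedPrimes.finite A A
  rw [← hfin.coe_toFinset] at hsub
  obtain ⟨P, hP, hle⟩ := (Ideal.subset_union_prime ⊥ ⊥
    (fun P hP _ _ => (hfin.mem_toFinset.1 hP).isPrime)).1 (by simpa using hsub)
  have hd' := GrothLib.Depth.depth_le_dim_quotient (hfin.mem_toFinset.1 hP)
  rw [hdep] at hd'
  exact le_trans (by exact_mod_cast hd') (ringKrullDim_le_of_surjective (Ideal.Quotient.factor hle)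
    (Ideal.Quotient.factor_surjective hle))

/-- Linked quotients of a Gorenstein ring. -/
theorem isCohenMacaulayRing_quot_of_linked {B : Type u} [CommRing B] [hB : LocCoh.IsGorensteinRing B]
    {I J : Ideal B} (h : ∀ y, y ∈ J ↔ ∀ i ∈ I, y * i = 0) (h' : ∀ y, y ∈ I ↔ ∀ j ∈ J, y * j = 0)
    [hI : LocCoh.IsCohenMacaulayRing (B ⧸ I)] : LocCoh.IsCohenMacaulayRing (B ⧸ J) := by
  haveI : IsNoetherianRing B := hB.toIsNoetherian
  refine { isCohenMacaulayLocalRing_localization := fun q _ => ?_ }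
  let Q := q.comap (Ideal.Quotient.mk J)
  let A := Localization.AtPrime Q
  obtain ⟨e⟩ := nonempty_localization_quot (Ideal.Quotient.mk J) Ideal.Quotient.mk_surjective q
  haveI := hB.isGorensteinLocalRing_localization Q
  have hJQ : J ≤ Q := fun y hy => by
    rw [Ideal.mem_comap, Ideal.Quotient.eq_zero_iff_mem.2 hy]; exact zero_mem _
  have hJne : J.map (algebraMap B A) ≠ ⊤ := fun ht => (maximalIdeal.isMaximal A).ne_top (top_le_iff.1 (by
    rw [← ht, ← Localization.AtPrime.map_eq_maximalIdeal]; exact Ideal.map_mono hJQ))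
  have hIcm : I.map (algebraMap B A) ≠ ⊤ → LocCoh.IsCohenMacaulayLocalRing (A ⧸ I.map (algebraMap B A)) := by
    intro hne
    have hIQ : I ≤ Q := by
      intro i hi
      by_contra hiQ
      exact hne (Ideal.eq_top_of_isUnit_mem _ (Ideal.mem_map_of_mem _ hi) (IsLocalization.map_units A (⟨i, hiQ⟩ : Q.primeCompl)))
    have hk : RingHom.ker (Ideal.Quotient.mk I) ≤ Q := by rwa [Ideal.mk_ker]
    haveI : (Q.map (Ideal.Quotient.mk I)).IsPrime :=
      Ideal.map_isPrime_of_surjective Ideal.Quotient.mk_surjective hk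
    have key : ∀ (Q' : Ideal B) [Q'.IsPrime], Q' = Q →
        Nonempty ((Localization.AtPrime Q' ⧸ I.map (algebraMap B (Localization.AtPrime Q'))) ≃+*
          Localization.AtPrime (Q.map (Ideal.Quotient.mk I))) →
        LocCoh.IsCohenMacaulayLocalRing (A ⧸ I.map (algebraMap B A)) := by
      rintro Q' _ rfl ⟨e'⟩
      haveI := hI.isCohenMacaulayLocalRing_localization (Q.map (Ideal.Quotient.mk I))
      exact cm_of_ringEquiv (R := Localization.AtPrime (Q.map (Ideal.Quotient.mk I))) e'.symm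
    obtain ⟨e'⟩ := nonempty_localization_quot (Ideal.Quotient.mk I) Ideal.Quotient.mk_surjective
      (Q.map (Ideal.Quotient.mk I))
    exact key _ (GrothLib.Faltings.comap_map_eq Ideal.Quotient.mk_surjective hk)
      ⟨(Ideal.quotEquivOfEq (by rw [Ideal.mk_ker])).trans e'⟩
  haveI := cm_quot_colon_local (A := A) (mem_map_colon_iff Q.primeCompl h) (mem_map_colon_iff Q.primeCompl h')
    hJne hIcm
  exact cm_of_ringEquiv (R := A ⧸ J.map (algebraMap B A)) ((Ideal.quotEquivOfEq (by rw [Ideal.mk_ker])).trans e)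

theorem mem_map_iff_of_colon {R : Type u} [CommRing R] {c I J : Ideal R}
    (h : c.colon (I : Set R) = J) (y : R ⧸ c) :
    y ∈ J.map (Ideal.Quotient.mk c) ↔ ∀ i ∈ I.map (Ideal.Quotient.mk c), y * i = 0 := by
  obtain ⟨y, rfl⟩ := Ideal.Quotient.mk_surjective y
  have hcJ : c ≤ J := h ▸ fun z hz => Submodule.mem_colon.2 fun a _ => c.mul_mem_right a hz
  rw [← Ideal.mem_comap, Ideal.comap_map_of_surjective' _ Ideal.Quotient.mk_surjective, Ideal.mk_ker,
    sup_eq_left.2 hcJ, ← h, Submodule.mem_colon]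
  constructor
  · intro hy i hi
    obtain ⟨i, hi', rfl⟩ := (Ideal.mem_map_iff_of_surjective _ Ideal.Quotient.mk_surjective).1 hi
    rw [← map_mul, Ideal.Quotient.eq_zero_iff_mem]
    exact hy i hi'
  · intro hy i hi
    have := hy _ (Ideal.mem_map_of_mem _ hi)
    rwa [← map_mul, Ideal.Quotient.eq_zero_iff_mem] at this

theorem isCohenMacaulayRing_quot_of_directlyLinked {R : Type u} [CommRing R] {c I J : Ideal R}
    [LocCoh.IsGorensteinRing (R ⧸ c)] (h₁ : c.colon (I : Set R) = J) (h₂ : c.colon (J : Set R) = I)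
    (hI : LocCoh.IsCohenMacaulayRing (R ⧸ I)) : LocCoh.IsCohenMacaulayRing (R ⧸ J) := by
  have hcI : c ≤ I := h₂ ▸ fun z hz => Submodule.mem_colon.2 fun a _ => c.mul_mem_right a hz
  have hcJ : c ≤ J := h₁ ▸ fun z hz => Submodule.mem_colon.2 fun a _ => c.mul_mem_right a hz
  haveI := isCohenMacaulayRing_of_ringEquiv (A := R ⧸ I) (DoubleQuot.quotQuotEquivQuotOfLE hcI).symm
  haveI := isCohenMacaulayRing_quot_of_linked (mem_map_iff_of_colon h₁) (mem_map_iff_of_colon h₂)
  exact isCohenMacaulayRing_of_ringEquiv (A := (R ⧸ c) ⧸ J.map (Ideal.Quotient.mk c))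
    (DoubleQuot.quotQuotEquivQuotOfLE hcJ)

end GrothLib.LiaisonCM
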