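import Groth.Agent.Lib.LiaisonCM.LinkedRing
import Groth.Agent.Lib.GorFlat.Artinian
import Groth.Agent.Lib.Gor.Hull
import Groth.Agent.Lib.LC.Seq

/-!
# Geometrically linked ideals: the sum has Gorenstein quotient
-/

set_option autoImplicit false
set_option linter.style.haveILetI false
universe u

open IsLocalRing CategoryTheory Abelian

namespace GrothLib.LiaisonCM

variable {A : Type u} [CommRing A] (I J : Ideal A)

/-- `a ↦ (a mod I, a mod J)`. -/
noncomputable def supDiag : A →ₗ[A] (A ⧸ I) × (A ⧸ J) := I.mkQ.prod J.mkQ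

/-- `(u, v) ↦ u - v` in `A/(I + J)`. -/
noncomputable def supDiff : (A ⧸ I) × (A ⧸ J) →ₗ[A] A ⧸ (I ⊔ J) :=
  (Submodule.factor (le_sup_left : I ≤ I ⊔ J)).comp (LinearMap.fst A _ _) -
    (Submodule.factor (le_sup_right : J ≤ I ⊔ J)).comp (LinearMap.snd A _ _)

theorem exact_supDiag : Function.Exact (supDiag I J) (supDiff I J) := by
  rintro ⟨u, v⟩
  obtain ⟨u, rfl⟩ := Submodule.Quotient.mk_surjective _ u
  obtain ⟨v, rfl⟩ := Submodule.Quotient.mk_surjective _ v
  constructor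
  · intro h
    have h' : u - v ∈ I ⊔ J := (Submodule.Quotient.eq (I ⊔ J)).1
      (sub_eq_zero.1 (h : (Submodule.Quotient.mk u : A ⧸ (I ⊔ J)) - Submodule.Quotient.mk v = 0))
    obtain ⟨i, hi, j, hj, hij⟩ := Submodule.mem_sup.1 h'
    refine ⟨u - i, Prod.ext ((Submodule.Quotient.eq _).2 (by simpa using hi)) ((Submodule.Quotient.eq _).2 ?_)⟩
    have : u - i - v = j := by linear_combination -hij
    rw [this]
    exact hj
  · rintro ⟨w, hw⟩
    rw [← hw]
    show (Submodule.Quotient.mk w : A ⧸ (I ⊔ J)) - Submodule.Quotient.mk w = 0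
    exact sub_self _

theorem supDiff_surjective : Function.Surjective (supDiff I J) := fun z => by
  obtain ⟨r, rfl⟩ := Submodule.Quotient.mk_surjective _ z
  refine ⟨(Submodule.Quotient.mk r, 0), ?_⟩
  simp [supDiff]

variable {I J} (hIJ : I ⊓ J = ⊥)
include hIJ

theorem supDiag_injective : Function.Injective (supDiag I J) := by
  refine (injective_iff_map_eq_zero _).2 fun a ha => ?_
  have : a ∈ I ⊓ J := ⟨(Submodule.Quotient.mk_eq_zero I).1 (congrArg Prod.fst ha),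
    (Submodule.Quotient.mk_eq_zero J).1 (congrArg Prod.snd ha)⟩
  rwa [hIJ, Ideal.mem_bot] at this

theorem shortExact_sup :
    (ShortComplex.mk (ModuleCat.ofHom (supDiag I J)) (ModuleCat.ofHom (supDiff I J))
      (ModuleCat.hom_ext (exact_supDiag I J).linearMap_comp_eq_zero)).ShortExact :=
  { exact := (ShortComplex.moduleCat_exact_iff _).2 fun y hy => (exact_supDiag I J y).1 hy
    mono_f := (ModuleCat.mono_iff_injective _).2 (supDiag_injective hIJ)
    epi_g := (ModuleCat.epi_iff_surjective _).2 (supDiff_surjective I J) }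

omit hIJ in
theorem depth_eq_of_cm (c : Ideal A) [IsLocalRing A] [IsNoetherianRing A] [hc : LocCoh.IsCohenMacaulayLocalRing (A ⧸ c)]
    {d : ℕ} (hd : ringKrullDim (A ⧸ c) = d) : LocCoh.depth A (A ⧸ c) = d := by
  have h := hc.supportDim_eq_depth
  have h2 := GrothLib.Depth.idealDepth_map_eq (B := A ⧸ c) (maximalIdeal A) (A ⧸ c)
  rw [Ideal.Quotient.algebraMap_eq, GrothLib.RegLoc.map_maximalIdeal_quotient] at h2
  rw [Module.supportDim_self_eq_ringKrullDim, hd] at h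
  exact h2.symm.trans (WithBot.coe_injective (by exact_mod_cast h.symm))

variable [IsLocalRing A] [IsNoetherianRing A]

/-- `H^i(A/I × A/J)` vanishes below the depths. -/
theorem le_depth_sup {d : ℕ} (hA : LocCoh.depth A A = ((d + 1 : ℕ) : ℕ∞)) (hI : LocCoh.depth A (A ⧸ I) = ((d + 1 : ℕ) : ℕ∞))
    (hJ : LocCoh.depth A (A ⧸ J) = ((d + 1 : ℕ) : ℕ∞)) : (d : ℕ∞) ≤ LocCoh.depth A (A ⧸ (I ⊔ J)) := by
  refine (GrothLib.Depth.le_idealDepth_iff_H (maximalIdeal A) d).2 fun i hi => ?_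
  have hA' := (GrothLib.Depth.le_idealDepth_iff_H (M := A) (maximalIdeal A) (d + 1)).1 hA.ge
  have hI' := (GrothLib.Depth.le_idealDepth_iff_H (M := A ⧸ I) (maximalIdeal A) (d + 1)).1 hI.ge
  have hJ' := (GrothLib.Depth.le_idealDepth_iff_H (M := A ⧸ J) (maximalIdeal A) (d + 1)).1 hJ.ge
  let P : ShortComplex (ModuleCat.{u} A) := ShortComplex.mk (ModuleCat.ofHom (LinearMap.inl A (A ⧸ I) (A ⧸ J)))
    (ModuleCat.ofHom (LinearMap.snd A (A ⧸ I) (A ⧸ J))) (ModuleCat.hom_ext (LinearMap.ext fun _ => rfl))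
  have hP : P.ShortExact :=
    { exact := (ShortComplex.moduleCat_exact_iff _).2 fun y hy => ⟨y.1, Prod.ext rfl hy.symm⟩
      mono_f := (ModuleCat.mono_iff_injective _).2 LinearMap.inl_injective
      epi_g := (ModuleCat.epi_iff_surjective _).2 LinearMap.snd_surjective }
  exact GrothLib.LC.subsingleton₃ (maximalIdeal A) (shortExact_sup hIJ) i
    (GrothLib.LC.subsingleton₂ (maximalIdeal A) hP i (hI' i (by omega)) (hJ' i (by omega))) (hA' (i + 1) (by omega))

/-- `A/(I+J)` has cyclic socle when it is artinian and `dim A = 1`. -/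
theorem socCyclic_sup [LocCoh.IsGorensteinLocalRing A] (hd : ringKrullDim A = ((1 : ℕ) : WithBot ℕ∞))
    [IsLocalRing (A ⧸ (I ⊔ J))] [IsArtinianRing (A ⧸ (I ⊔ J))]
    (hI : ∃ x ∈ maximalIdeal A, IsSMulRegular (A ⧸ I) x ∧ IsSMulRegular (A ⧸ J) x) :
    GorFlat.SocCyclic (A ⧸ (I ⊔ J)) := by
  let S : ShortComplex (ModuleCat.{u} A) := ShortComplex.mk (ModuleCat.ofHom (supDiag I J))
    (ModuleCat.ofHom (supDiff I J)) (ModuleCat.hom_ext (exact_supDiag I J).linearMap_comp_eq_zero)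
  have hS : S.ShortExact := shortExact_sup hIJ
  let k := ModuleCat.of A (A ⧸ maximalIdeal A)
  let ε : ((A ⧸ maximalIdeal A) →ₗ[A] A ⧸ (I ⊔ J)) →ₗ[A] Ext k (ModuleCat.of A A) 1 :=
    { toFun := fun g => (Ext.mk₀ (ModuleCat.ofHom g : k ⟶ S.X₃)).comp hS.extClass (zero_add 1)
      map_add' := fun g g' => by
        rw [show (ModuleCat.ofHom (g + g') : k ⟶ S.X₃) = (ModuleCat.ofHom g : k ⟶ S.X₃) + ModuleCat.ofHom g' from rfl,
          Ext.mk₀_add, Ext.add_comp]
      map_smul' := fun r g => by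
        rw [show (ModuleCat.ofHom (r • g) : k ⟶ S.X₃) = r • (ModuleCat.ofHom g : k ⟶ S.X₃) from rfl,
          Ext.mk₀_smul, Ext.smul_comp]
        rfl }
  have hε : Function.Injective ε := by
    refine (injective_iff_map_eq_zero ε).2 fun g hg => ?_
    obtain ⟨e, he⟩ := Ext.covariant_sequence_exact₃ k hS (Ext.mk₀ (ModuleCat.ofHom g : k ⟶ S.X₃)) (zero_add 1) hg
    obtain ⟨φ, rfl⟩ := (Ext.mk₀_bijective _ _).2 e
    obtain ⟨x, hx, hxI, hxJ⟩ := hI
    have hφ : φ = 0 := by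
      refine ModuleCat.hom_ext (LinearMap.ext fun z => ?_)
      have hz : x • z = 0 := by
        obtain ⟨r, rfl⟩ := Ideal.Quotient.mk_surjective (I := maximalIdeal A) z
        exact Ideal.Quotient.eq_zero_iff_mem.2 (Ideal.mul_mem_right r _ hx)
      have h1 : x • φ.hom z = 0 := by rw [← map_smul, hz, map_zero]
      exact Prod.ext (hxI.right_eq_zero_of_smul (congrArg Prod.fst h1)) (hxJ.right_eq_zero_of_smul (congrArg Prod.snd h1))
    rw [Ext.mk₀_comp_mk₀, hφ, Limits.zero_comp] at he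
    have := (Ext.mk₀_bijective _ _).1 he
    exact congrArg (fun f => ModuleCat.Hom.hom f) this.symm
  have h1 := (Gor.length_ext_residue A hd).2
  have hlen : Module.length A (LocCoh.torsionBy (maximalIdeal A) (A ⧸ (I ⊔ J))) ≤ 1 := by
    rw [← (Matlis.homQuotEquiv (maximalIdeal A) (A ⧸ (I ⊔ J))).length_eq, ← h1]
    exact Module.length_le_of_injective ε hε
  obtain ⟨s, hs, hms⟩ : ∃ s : A ⧸ (I ⊔ J), s ≠ 0 ∧ ∀ a ∈ maximalIdeal (A ⧸ (I ⊔ J)), a * s = 0 := by
    refine GorFlat.exists_socle_of_no_regular fun y hy hreg => ?_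
    exact (mem_maximalIdeal y).1 hy
      (IsArtinianRing.isUnit_of_mem_nonZeroDivisors (mem_nonZeroDivisors_iff_right.2 fun z hz =>
        hreg.right_eq_zero_of_smul (by rw [smul_eq_mul, mul_comm]; exact hz)))
  have hmk : ∀ a ∈ maximalIdeal A, Ideal.Quotient.mk (I ⊔ J) a ∈ maximalIdeal (A ⧸ (I ⊔ J)) := fun a ha => by
    rw [← GrothLib.RegLoc.map_maximalIdeal_quotient (I ⊔ J)]; exact Ideal.mem_map_of_mem _ ha
  have hmem : ∀ z : A ⧸ (I ⊔ J), (∀ a ∈ maximalIdeal (A ⧸ (I ⊔ J)), a * z = 0) →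
      z ∈ LocCoh.torsionBy (maximalIdeal A) (A ⧸ (I ⊔ J)) := fun z hz =>
    (Submodule.mem_torsionBySet_iff _ _).2 fun a => by
      rw [Algebra.smul_def, Ideal.Quotient.algebraMap_eq]
      exact hz _ (hmk a a.2)
  let T := LocCoh.torsionBy (maximalIdeal A) (A ⧸ (I ⊔ J))
  let w : T := ⟨s, hmem s hms⟩
  have hw : w ≠ 0 := fun h => hs (congrArg Subtype.val h)
  haveI : Nontrivial T := ⟨⟨w, 0, hw⟩⟩
  haveI : IsSimpleModule A T := Module.length_eq_one_iff.1 (le_antisymm hlen (Order.one_le_iff_pos.2 Module.length_pos))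
  refine ⟨s, hs, hms, fun z hz => ?_⟩
  obtain ⟨c, hc⟩ := Submodule.mem_span_singleton.1
    ((IsSimpleModule.span_singleton_eq_top (R := A) hw).symm ▸ Submodule.mem_top (x := (⟨z, hmem z hz⟩ : T)))
  refine ⟨Ideal.Quotient.mk _ c, ?_⟩
  have h2 : c • s = z := congrArg Subtype.val hc
  rw [← h2, Algebra.smul_def, Ideal.Quotient.algebraMap_eq]

end GrothLib.LiaisonCM
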