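import Groth.Agent.Lib.LiaisonCM.SupRing
import Groth.Agent.Lib.CatCM.Basic
import Groth.Agent.Lib.GorFlat.Rings

/-!
# The sum of geometrically linked arithmetically Cohen–Macaulay ideals
-/

set_option autoImplicit false
set_option linter.style.haveILetI false
universe u

open IsLocalRing

namespace GrothLib.LiaisonCM

theorem colon_eq_of_avoid {R : Type u} [CommRing R] [IsNoetherianRing R] {I₁ I₂ : Ideal R}
    (h : ∀ P ∈ associatedPrimes R (R ⧸ I₂), ¬ I₁ ≤ P) : (I₁ ⊓ I₂).colon (I₁ : Set R) = I₂ := by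
  refine le_antisymm (fun y hy => ?_) fun y hy => Submodule.mem_colon.2 fun a ha =>
    ⟨I₁.mul_mem_left y ha, I₂.mul_mem_right a hy⟩
  by_contra hy2
  have hsub : (I₁ : Set R) ⊆ ⋃ P ∈ associatedPrimes R (R ⧸ I₂), (P : Set R) := fun a ha => by
    rw [biUnion_associatedPrimes_eq_zero_divisors]
    refine ⟨Submodule.Quotient.mk y, fun h0 => hy2 ((Submodule.Quotient.mk_eq_zero I₂).1 h0), ?_⟩
    rw [← Submodule.Quotient.mk_smul, Submodule.Quotient.mk_eq_zero, smul_eq_mul, mul_comm]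
    exact (Submodule.mem_colon.1 hy a ha).2
  have hfin := associatedPrimes.finite R (R ⧸ I₂)
  rw [← hfin.coe_toFinset] at hsub
  obtain ⟨P, hP, hle⟩ := (Ideal.subset_union_prime ⊥ ⊥
    (fun P hP _ _ => (hfin.mem_toFinset.1 hP).isPrime)).1 (by simpa using hsub)
  exact h P (hfin.mem_toFinset.1 hP) hle

theorem sup_facts {R : Type u} [CommRing R] [LocCoh.IsCohenMacaulayRing R] {I₁ I₂ : Ideal R}
    [LocCoh.IsCohenMacaulayRing (R ⧸ I₁)] [LocCoh.IsCohenMacaulayRing (R ⧸ I₂)]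
    [LocCoh.IsGorensteinRing (R ⧸ (I₁ ⊓ I₂))] {c : ℕ}
    (hc₁ : ∀ P ∈ associatedPrimes R (R ⧸ I₁), P.height = c) (hc₂ : ∀ P ∈ associatedPrimes R (R ⧸ I₂), P.height = c)
    (hdisj : Disjoint I₁.minimalPrimes I₂.minimalPrimes) (hne : I₁ ⊔ I₂ ≠ ⊤) :
    (I₁ ⊔ I₂).height = c + 1 ∧ LocCoh.IsGorensteinRing (R ⧸ (I₁ ⊔ I₂)) := by
  have hmin : ∀ (I : Ideal R), (∀ P ∈ associatedPrimes R (R ⧸ I), P.height = c) → ∀ P ∈ I.minimalPrimes,
      P.height = c := fun I hI P hP =>
    hI P (Module.associatedPrimes.minimalPrimes_annihilator_subset_associatedPrimes _ _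
      (by rwa [Ideal.annihilator_quotient]))
  have havoid : ∀ (I I' : Ideal R) [LocCoh.IsCohenMacaulayRing (R ⧸ I')], Disjoint I.minimalPrimes I'.minimalPrimes →
      (∀ P ∈ associatedPrimes R (R ⧸ I), P.height = c) → (∀ P ∈ associatedPrimes R (R ⧸ I'), P.height = c) →
      ∀ P ∈ associatedPrimes R (R ⧸ I'), ¬ I ≤ P := fun I I' _ hd hI hI' P hP hle => by
    have hPmin := mem_minimalPrimes_of_mem_associatedPrimes I' hP
    haveI := hP.isPrime
    obtain ⟨P₀, hP₀, hle₀⟩ := Ideal.exists_minimalPrimes_le hle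
    haveI := hP₀.1.1
    haveI : P₀.FiniteHeight := ⟨Or.inr (by rw [hmin I hI P₀ hP₀]; exact ENat.natCast_ne_top c)⟩
    obtain rfl := Ideal.eq_of_le_of_height_le P₀ hle₀ (by rw [hI' P hP, hmin I hI P₀ hP₀])
    exact Set.disjoint_left.1 hd hP₀ hPmin
  have e₁ : (I₁ ⊓ I₂).colon (I₁ : Set R) = I₂ := colon_eq_of_avoid (havoid I₁ I₂ hdisj hc₁ hc₂)
  have e₂ : (I₁ ⊓ I₂).colon (I₂ : Set R) = I₁ := by
    rw [inf_comm]; exact colon_eq_of_avoid (havoid I₂ I₁ hdisj.symm hc₂ hc₁)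
  let π := Ideal.Quotient.mk (I₁ ⊓ I₂)
  have hk : RingHom.ker π = I₁ ⊓ I₂ := Ideal.mk_ker
  have hc : ∀ K : Ideal R, I₁ ⊓ I₂ ≤ K → (K.map π).comap π = K := fun K hK => by
    rw [Ideal.comap_map_of_surjective' π Ideal.Quotient.mk_surjective, hk, sup_eq_left.2 hK]
  have hinf : I₁.map π ⊓ I₂.map π = ⊥ := by
    apply Ideal.comap_injective_of_surjective π Ideal.Quotient.mk_surjective
    rw [Ideal.comap_inf, hc _ inf_le_left, hc _ inf_le_right, ← RingHom.ker_eq_comap_bot, hk]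
  haveI := isCohenMacaulayRing_of_ringEquiv (A := R ⧸ I₁)
    (DoubleQuot.quotQuotEquivQuotOfLE (inf_le_left : I₁ ⊓ I₂ ≤ I₁)).symm
  haveI := isCohenMacaulayRing_of_ringEquiv (A := R ⧸ I₂)
    (DoubleQuot.quotQuotEquivQuotOfLE (inf_le_right : I₁ ⊓ I₂ ≤ I₂)).symm
  have h := mem_map_iff_of_colon e₁
  have h' := mem_map_iff_of_colon e₂
  constructor
  · have key : ∀ P ∈ (I₁ ⊔ I₂).minimalPrimes, P.height = c + 1 := by
      intro P hP
      haveI := hP.1.1
      have hcP : RingHom.ker π ≤ P := hk.le.trans (inf_le_left.trans (le_sup_left.trans hP.1.2))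
      have hPc : (P.map π).comap π = P := GrothLib.Faltings.comap_map_eq Ideal.Quotient.mk_surjective hcP
      haveI : (P.map π).IsPrime := Ideal.map_isPrime_of_surjective Ideal.Quotient.mk_surjective hcP
      have hPm : P.map π ∈ (I₁.map π ⊔ I₂.map π).minimalPrimes := by
        rw [← Ideal.map_sup]
        refine ⟨⟨inferInstance, Ideal.map_mono hP.1.2⟩, fun Q hQ hle => ?_⟩
        haveI := hQ.1
        exact Ideal.map_le_iff_le_comap.2 (hP.2 ⟨inferInstance, Ideal.map_le_iff_le_comap.1 hQ.2⟩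
          ((Ideal.comap_mono hle).trans_eq hPc))
      have h1 := height_eq_one_of_mem_minimalPrimes hinf h h' hPm
      -- a minimal prime of `I₁ ⊓ I₂` strictly below `P`
      obtain ⟨P₀, hP₀, hle⟩ := Ideal.exists_minimalPrimes_le (inf_le_left.trans (le_sup_left.trans hP.1.2) : I₁ ⊓ I₂ ≤ P)
      haveI := hP₀.1.1
      have hh₀ : P₀.height = c := by
        rcases hP₀.1.1.inf_le.1 hP₀.1.2 with h12 | h12
        · exact hmin I₁ hc₁ P₀ ⟨⟨inferInstance, h12⟩, fun Q hQ hQle => hP₀.2 ⟨hQ.1, inf_le_left.trans hQ.2⟩ hQle⟩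
        · exact hmin I₂ hc₂ P₀ ⟨⟨inferInstance, h12⟩, fun Q hQ hQle => hP₀.2 ⟨hQ.1, inf_le_right.trans hQ.2⟩ hQle⟩
      have hcP₀ : RingHom.ker π ≤ P₀ := hk.le.trans hP₀.1.2
      have hlt : P₀ < P := lt_of_le_of_ne hle fun e => by
        haveI : (P₀.map π).IsPrime := Ideal.map_isPrime_of_surjective Ideal.Quotient.mk_surjective hcP₀
        have h0 : (P.map π).height = 0 := by
          rw [Ideal.height_eq_zero_iff]
          refine ⟨⟨inferInstance, bot_le⟩, fun Q hQ hQle => ?_⟩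
          haveI := hQ.1
          refine Ideal.map_le_iff_le_comap.2 (e ▸ hP₀.2 ⟨inferInstance, ?_⟩ ((Ideal.comap_mono hQle).trans_eq (hPc.trans e.symm)))
          exact hk.ge.trans fun x hx => by rw [Ideal.mem_comap, RingHom.mem_ker.1 hx]; exact zero_mem _
        rw [h0] at h1
        exact zero_ne_one h1
      have hcov : (⟨P₀, inferInstance⟩ : PrimeSpectrum R) ⋖ ⟨P, inferInstance⟩ := by
        refine ⟨hlt, fun Q hQ₁ hQ₂ => ?_⟩
        have hcQ : RingHom.ker π ≤ Q.asIdeal := hcP₀.trans hQ₁.le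
        haveI : (Q.asIdeal.map π).IsPrime := Ideal.map_isPrime_of_surjective Ideal.Quotient.mk_surjective hcQ
        haveI : (P₀.map π).IsPrime := Ideal.map_isPrime_of_surjective Ideal.Quotient.mk_surjective hcP₀
        have hlt' : ∀ {X Y : Ideal R}, RingHom.ker π ≤ X → RingHom.ker π ≤ Y → X < Y → X.map π < Y.map π := fun hX hY hXY =>
          lt_of_le_of_ne (Ideal.map_mono hXY.le) fun e => hXY.ne (by
            rw [← GrothLib.Faltings.comap_map_eq Ideal.Quotient.mk_surjective hX, e,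
              GrothLib.Faltings.comap_map_eq Ideal.Quotient.mk_surjective hY])
        have h2 := Ideal.height_add_one_le_of_lt_of_isPrime (hlt' hcP₀ hcQ hQ₁)
        have h3 := Ideal.height_add_one_le_of_lt_of_isPrime (hlt' hcQ hcP hQ₂)
        rw [h1] at h3
        have h4 : (1 : ℕ∞) + 1 ≤ 1 :=
          le_trans (add_le_add (le_trans le_add_self h2) le_rfl) h3
        exact absurd h4 (by norm_num)
      rw [GrothLib.CatCM.height_covBy hcov, hh₀]
    obtain ⟨P, hP⟩ := Ideal.nonempty_minimalPrimes hne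
    rw [Ideal.height_eq_inf_minimalPrimes]
    exact le_antisymm ((iInf₂_le P hP).trans (key P hP).le) (le_iInf₂ fun P hP => (key P hP).ge)
  · exact GorFlat.isGorensteinRing_of_ringEquiv ((Ideal.quotEquivOfEq (Ideal.map_sup π I₁ I₂).symm).trans
      (DoubleQuot.quotQuotEquivQuotOfLE (inf_le_left.trans le_sup_left))) (isGorensteinRing_quot_sup hinf h h')

end GrothLib.LiaisonCM
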