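import Groth.Agent.Lib.LiaisonCM.Sup
import Groth.Agent.Lib.GorFlat.Main

/-!
# Geometrically linked ideals in a Gorenstein local ring
-/

set_option autoImplicit false
set_option linter.style.haveILetI false
universe u

open IsLocalRing

namespace GrothLib.LiaisonCM

variable {A : Type u} [CommRing A] {I J : Ideal A}

theorem exists_regular_avoid [IsLocalRing A] [IsNoetherianRing A] (C : Ideal A) (Ms : Set (Ideal A))
    (hfin : Ms.Finite) (hp : ∀ P ∈ Ms, P.IsPrime) (h : ∀ P ∈ Ms, ¬ C ≤ P) : ∃ x ∈ C, ∀ P ∈ Ms, x ∉ P := by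
  by_contra! hc
  have hsub : (C : Set A) ⊆ ⋃ P ∈ Ms, (P : Set A) := fun x hx => by
    obtain ⟨P, hP, hxP⟩ := hc x hx
    exact Set.mem_biUnion hP hxP
  rw [← hfin.coe_toFinset] at hsub
  obtain ⟨P, hP, hle⟩ := (Ideal.subset_union_prime ⊥ ⊥
    (fun P hP _ _ => hp P (hfin.mem_toFinset.1 hP))).1 (by simpa using hsub)
  exact h P (hfin.mem_toFinset.1 hP) hle

theorem isSMulRegular_of_avoid [IsNoetherianRing A] {M : Type u} [AddCommGroup M] [Module A M] {x : A}
    (h : ∀ P ∈ associatedPrimes A M, x ∉ P) : IsSMulRegular M x := by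
  by_contra hx
  have : x ∈ ⋃ P ∈ associatedPrimes A M, (P : Set A) := by
    rw [biUnion_associatedPrimes_eq_compl_regular]
    exact hx
  obtain ⟨P, hP, hxP⟩ := Set.mem_iUnion₂.1 this
  exact h P hP hxP

/-- The sum of two linked ideals meeting in zero lies in no associated prime of `A`. -/
theorem not_sup_le_of_mem_associatedPrimes [IsNoetherianRing A] (hIJ : I ⊓ J = ⊥)
    (h : ∀ y, y ∈ J ↔ ∀ i ∈ I, y * i = 0) (h' : ∀ y, y ∈ I ↔ ∀ j ∈ J, y * j = 0) {P : Ideal A}
    (hP : P ∈ associatedPrimes A A) : ¬ I ⊔ J ≤ P := fun hle => by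
  obtain ⟨-, w, hw⟩ := isAssociatedPrime_iff.1 hP
  have hmem : ∀ a ∈ P, a * w = 0 := fun a ha => by
    rw [hw, Submodule.mem_colon_singleton, Submodule.mem_bot] at ha
    exact ha
  have h1 : w ∈ J := (h w).2 fun i hi => by rw [mul_comm]; exact hmem i (hle (Ideal.mem_sup_left hi))
  have h2 : w ∈ I := (h' w).2 fun j hj => by rw [mul_comm]; exact hmem j (hle (Ideal.mem_sup_right hj))
  have h0 : w = 0 := by
    have : w ∈ I ⊓ J := ⟨h2, h1⟩
    rwa [hIJ, Ideal.mem_bot] at this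
  refine hP.isPrime.ne_top ?_
  rw [hw, h0, eq_top_iff]
  intro r _
  rw [Submodule.mem_colon_singleton, smul_zero]
  exact zero_mem _

theorem inf_map_le {x : A} (hIJ : I ⊓ J = ⊥) (hC : IsSMulRegular (A ⧸ (I ⊔ J)) x) :
    I.map (Ideal.Quotient.mk (Ideal.span {x})) ⊓ J.map (Ideal.Quotient.mk (Ideal.span {x})) = ⊥ := by
  rw [eq_bot_iff]
  rintro z ⟨hzI, hzJ⟩
  obtain ⟨i, hi, rfl⟩ := (Ideal.mem_map_iff_of_surjective _ Ideal.Quotient.mk_surjective).1 hzI
  obtain ⟨j, hj, hij⟩ := (Ideal.mem_map_iff_of_surjective _ Ideal.Quotient.mk_surjective).1 hzJ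
  rw [eq_comm, Ideal.Quotient.eq, Ideal.mem_span_singleton'] at hij
  obtain ⟨a, ha⟩ := hij
  have hsum : i - j ∈ I ⊔ J := sub_mem (Ideal.mem_sup_left hi) (Ideal.mem_sup_right hj)
  have hmem : a ∈ I ⊔ J := by
    refine (Submodule.Quotient.mk_eq_zero _).1 (hC.right_eq_zero_of_smul ?_)
    rw [← Submodule.Quotient.mk_smul, Submodule.Quotient.mk_eq_zero, smul_eq_mul, mul_comm, ha]
    exact hsum
  obtain ⟨i', hi', j', hj', rfl⟩ := Submodule.mem_sup.1 hmem
  have h0 : i - x * i' ∈ I ⊓ J := ⟨sub_mem hi (I.mul_mem_left x hi'), by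
    rw [show i - x * i' = j + x * j' by linear_combination -ha]
    exact add_mem hj (J.mul_mem_left x hj')⟩
  rw [hIJ, Ideal.mem_bot, sub_eq_zero] at h0
  rw [h0, Ideal.mem_bot, Ideal.Quotient.eq_zero_iff_mem]
  exact Ideal.mem_span_singleton'.2 ⟨i', by ring⟩

theorem map_colon_iff {x : A} (hxA : IsSMulRegular A x) (h : ∀ y, y ∈ J ↔ ∀ i ∈ I, y * i = 0)
    [Subsingleton (CategoryTheory.Abelian.Ext (ModuleCat.of A (A ⧸ I)) (ModuleCat.of A A) 1)]
    (y : A ⧸ Ideal.span {x}) :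
    y ∈ J.map (Ideal.Quotient.mk (Ideal.span {x})) ↔
      ∀ i ∈ I.map (Ideal.Quotient.mk (Ideal.span {x})), y * i = 0 := by
  obtain ⟨y, rfl⟩ := Ideal.Quotient.mk_surjective y
  constructor
  · intro hy i hi
    obtain ⟨y₀, hy₀, hyy⟩ := (Ideal.mem_map_iff_of_surjective _ Ideal.Quotient.mk_surjective).1 hy
    obtain ⟨i₀, hi₀, rfl⟩ := (Ideal.mem_map_iff_of_surjective _ Ideal.Quotient.mk_surjective).1 hi
    rw [← hyy, ← map_mul, (h y₀).1 hy₀ i₀ hi₀, map_zero]
  · intro hy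
    obtain ⟨c, hc⟩ := exists_mul_of_colon I hxA (y := y) fun i hi => by
      have := hy _ (Ideal.mem_map_of_mem _ hi)
      rwa [← map_mul, Ideal.Quotient.eq_zero_iff_mem] at this
    refine (Ideal.mem_map_iff_of_surjective _ Ideal.Quotient.mk_surjective).2 ⟨y - x * c, (h _).2 hc, ?_⟩
    rw [map_sub, map_mul, Ideal.Quotient.eq_zero_iff_mem.2 (Ideal.mem_span_singleton_self x),
      zero_mul, sub_zero]

theorem cm_quot_span_mk [IsLocalRing A] [IsNoetherianRing A] (K : Ideal A)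
    [hK : LocCoh.IsCohenMacaulayLocalRing (A ⧸ K)] {x : A}
    (hx : x ∈ maximalIdeal A) (hreg : IsSMulRegular (A ⧸ K) x) {d : ℕ}
    (hd : ringKrullDim (A ⧸ K) = ((d + 1 : ℕ) : WithBot ℕ∞)) :
    LocCoh.IsCohenMacaulayLocalRing ((A ⧸ Ideal.span {x}) ⧸ K.map (Ideal.Quotient.mk (Ideal.span {x}))) ∧
      ringKrullDim ((A ⧸ Ideal.span {x}) ⧸ K.map (Ideal.Quotient.mk (Ideal.span {x}))) = (d : WithBot ℕ∞) := by
  haveI : IsLocalRing (A ⧸ K) := hK.toIsLocalRing
  have hxK : Ideal.Quotient.mk K x ∈ maximalIdeal (A ⧸ K) := by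
    rw [← GrothLib.RegLoc.map_maximalIdeal_quotient K]; exact Ideal.mem_map_of_mem _ hx
  have hxr : IsSMulRegular (A ⧸ K) (Ideal.Quotient.mk K x) := fun a b h => hreg (by
    simpa [Algebra.smul_def] using h)
  let e : ((A ⧸ Ideal.span {x}) ⧸ K.map (Ideal.Quotient.mk (Ideal.span {x}))) ≃+*
      (A ⧸ K) ⧸ Ideal.span {Ideal.Quotient.mk K x} :=
    (DoubleQuot.quotQuotEquivComm (Ideal.span {x}) K).trans
      (Ideal.quotEquivOfEq (by rw [Ideal.map_span, Set.image_singleton]))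
  haveI : LocCoh.IsCohenMacaulayLocalRing ((A ⧸ K) ⧸ Ideal.span {Ideal.Quotient.mk K x}) := by
    have := SyntLoc.isCohenMacaulayLocalRing_quotient_ofList (L := A ⧸ K) [Ideal.Quotient.mk K x]
      (fun r hr => by rw [List.mem_singleton.1 hr]; exact hxK)
      ((RingTheory.Sequence.isWeaklyRegular_singleton_iff _ _).2 hxr)
    rwa [Ideal.ofList_singleton] at this
  refine ⟨cm_of_ringEquiv (R := (A ⧸ K) ⧸ Ideal.span {Ideal.Quotient.mk K x}) e.symm, ?_⟩
  have := ringKrullDim_quotient_span_singleton_succ_eq_ringKrullDim hxr hxK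
  rw [hd] at this
  rw [ringKrullDim_eq_of_ringEquiv e]
  exact GrothLib.LC.eq_natCast_of_add_one_eq this

/-- The main local statement. -/
theorem gorenstein_quot_sup : ∀ (d : ℕ) (A : Type u) [CommRing A] [IsLocalRing A] [LocCoh.IsGorensteinLocalRing A]
    (I J : Ideal A), I ⊓ J = ⊥ → (∀ y, y ∈ J ↔ ∀ i ∈ I, y * i = 0) → (∀ y, y ∈ I ↔ ∀ j ∈ J, y * j = 0) →
      I ⊔ J ≠ ⊤ → LocCoh.IsCohenMacaulayLocalRing (A ⧸ I) → LocCoh.IsCohenMacaulayLocalRing (A ⧸ J) →
      ringKrullDim A = ((d + 1 : ℕ) : WithBot ℕ∞) → ringKrullDim (A ⧸ I) = ((d + 1 : ℕ) : WithBot ℕ∞) →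
      ringKrullDim (A ⧸ J) = ((d + 1 : ℕ) : WithBot ℕ∞) →
      LocCoh.IsGorensteinLocalRing (A ⧸ (I ⊔ J)) ∧ ringKrullDim (A ⧸ (I ⊔ J)) = (d : WithBot ℕ∞) := by
  intro d
  induction d using Nat.strong_induction_on with
  | _ d ih =>
    intro A _ _ _ I J hIJ h h' hne hIcm hJcm hd hdI hdJ
    haveI := hIcm
    haveI := hJcm
    haveI := Gor.isCohenMacaulayLocalRing A
    haveI : IsLocalRing (A ⧸ (I ⊔ J)) := GorFlat.isLocalRing_quot (le_maximalIdeal hne)
    have hdA : LocCoh.depth A A = ((d + 1 : ℕ) : ℕ∞) := by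
      obtain ⟨d', hd', hdep, -⟩ := Gor.exists_dim A
      rw [hd] at hd'
      rw [hdep]
      exact_mod_cast hd'.symm
    have hdepI := depth_eq_of_cm I hdI
    have hdepJ := depth_eq_of_cm J hdJ
    -- dimension and depth of the sum
    obtain ⟨y, hy, hyreg⟩ := exists_regular_avoid (I ⊔ J) _ (associatedPrimes.finite A A)
      (fun P hP => hP.isPrime) fun P hP => not_sup_le_of_mem_associatedPrimes hIJ h h' hP
    have hyA : IsSMulRegular A y := isSMulRegular_of_avoid hyreg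
    have hdimC : ringKrullDim (A ⧸ (I ⊔ J)) ≤ (d : WithBot ℕ∞) := by
      have h1 := ringKrullDim_quotient_span_singleton_succ_eq_ringKrullDim hyA (le_maximalIdeal hne hy)
      rw [hd] at h1
      rw [← GrothLib.LC.eq_natCast_of_add_one_eq h1]
      exact ringKrullDim_le_of_surjective (Ideal.Quotient.factor ((Ideal.span_singleton_le_iff_mem _).2 hy))
        (Ideal.Quotient.factor_surjective _)
    have hdepC : (d : ℕ∞) ≤ LocCoh.depth A (A ⧸ (I ⊔ J)) := le_depth_sup hIJ hdA hdepI hdepJ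
    haveI : Nontrivial (A ⧸ (I ⊔ J)) := Ideal.Quotient.nontrivial_iff.2 hne
    have hdep' : (d : ℕ∞) ≤ LocCoh.depth (A ⧸ (I ⊔ J)) (A ⧸ (I ⊔ J)) := by
      have h2 := GrothLib.Depth.idealDepth_map_eq (B := A ⧸ (I ⊔ J)) (maximalIdeal A) (A ⧸ (I ⊔ J))
      rw [Ideal.Quotient.algebraMap_eq, GrothLib.RegLoc.map_maximalIdeal_quotient] at h2
      exact hdepC.trans h2.ge
    have hle := GrothLib.Depth.depth_le_supportDim (A ⧸ (I ⊔ J)) (A ⧸ (I ⊔ J))
    rw [Module.supportDim_self_eq_ringKrullDim] at hle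
    have hdimC' : ringKrullDim (A ⧸ (I ⊔ J)) = (d : WithBot ℕ∞) :=
      le_antisymm hdimC (le_trans (by exact_mod_cast hdep') hle)
    refine ⟨?_, hdimC'⟩
    have hne' : ∀ (M : Type u) [AddCommGroup M] [Module A M] [Module.Finite A M] (k : ℕ),
        ((k + 1 : ℕ) : ℕ∞) ≤ LocCoh.depth A M →
        ∀ P ∈ associatedPrimes A M, ¬ maximalIdeal A ≤ P := fun M _ _ _ k hk P hP hle => by
      have h0 := (CMBasics.depth_eq_zero_iff (M := M)).2
        (((maximalIdeal.isMaximal A).eq_of_le hP.isPrime.ne_top hle) ▸ hP)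
      rw [h0] at hk
      exact Nat.succ_ne_zero k (by exact_mod_cast le_antisymm hk zero_le)
    rcases d with _ | d
    · -- dimension one
      haveI : Ring.KrullDimLE 0 (A ⧸ (I ⊔ J)) := Ring.krullDimLE_iff.2 hdimC
      haveI : IsArtinianRing (A ⧸ (I ⊔ J)) := isArtinianRing_iff_krullDimLE_zero.2 inferInstance
      obtain ⟨x, hx, hxP⟩ := exists_regular_avoid (maximalIdeal A) _
        ((associatedPrimes.finite A (A ⧸ I)).union (associatedPrimes.finite A (A ⧸ J)))
        (fun P hP => hP.elim (fun h => h.isPrime) fun h => h.isPrime)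
        (fun P hP => hP.elim (hne' _ 0 hdepI.ge P) (hne' _ 0 hdepJ.ge P))
      exact GorFlat.gorenstein_of_socCyclic (socCyclic_sup hIJ hd ⟨x, hx,
        isSMulRegular_of_avoid fun P hP => hxP P (Or.inl hP), isSMulRegular_of_avoid fun P hP => hxP P (Or.inr hP)⟩)
    · -- higher dimension
      obtain ⟨x, hx, hxP⟩ := exists_regular_avoid (maximalIdeal A) _
        (((associatedPrimes.finite A A).union (associatedPrimes.finite A (A ⧸ I))).union
          ((associatedPrimes.finite A (A ⧸ J)).union (associatedPrimes.finite A (A ⧸ (I ⊔ J)))))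
        (fun P hP => hP.elim (fun h => h.elim (fun h => h.isPrime) fun h => h.isPrime)
          fun h => h.elim (fun h => h.isPrime) fun h => h.isPrime)
        (fun P hP => hP.elim (fun h => h.elim (hne' _ (d + 1) hdA.ge P) (hne' _ (d + 1) hdepI.ge P))
          fun h => h.elim (hne' _ (d + 1) hdepJ.ge P) (hne' _ d hdepC P))
      have hxA : IsSMulRegular A x := isSMulRegular_of_avoid fun P hP => hxP P (Or.inl (Or.inl hP))
      have hxI : IsSMulRegular (A ⧸ I) x := isSMulRegular_of_avoid fun P hP => hxP P (Or.inl (Or.inr hP))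
      have hxJ : IsSMulRegular (A ⧸ J) x := isSMulRegular_of_avoid fun P hP => hxP P (Or.inr (Or.inl hP))
      have hxC : IsSMulRegular (A ⧸ (I ⊔ J)) x := isSMulRegular_of_avoid fun P hP => hxP P (Or.inr (Or.inr hP))
      haveI := Gor.isLocalRing_quotient hx hxA
      haveI := Gor.isGorensteinLocalRing_quotient hx hxA
      haveI e1 : Subsingleton (CategoryTheory.Abelian.Ext (ModuleCat.of A (A ⧸ I)) (ModuleCat.of A A) 1) :=
        ext_vanish hd (d + 1 + 1) (A ⧸ I) hdepI.ge 1 (by omega)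
      haveI e2 : Subsingleton (CategoryTheory.Abelian.Ext (ModuleCat.of A (A ⧸ J)) (ModuleCat.of A A) 1) :=
        ext_vanish hd (d + 1 + 1) (A ⧸ J) hdepJ.ge 1 (by omega)
      obtain ⟨hI1, hI2⟩ := cm_quot_span_mk I hx hxI hdI
      obtain ⟨hJ1, hJ2⟩ := cm_quot_span_mk J hx hxJ hdJ
      let π := Ideal.Quotient.mk (Ideal.span {x})
      have hne2 : I.map π ⊔ J.map π ≠ ⊤ := by
        rw [← Ideal.map_sup]
        intro ht
        refine (maximalIdeal.isMaximal A).ne_top (top_le_iff.1 ?_)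
        have h1 := congrArg (Ideal.comap π) ht
        rw [Ideal.comap_top, Ideal.comap_map_of_surjective' π Ideal.Quotient.mk_surjective, Ideal.mk_ker] at h1
        rw [← h1]
        exact sup_le (le_maximalIdeal hne) ((Ideal.span_singleton_le_iff_mem _).2 hx)
      have hdA' : ringKrullDim (A ⧸ Ideal.span {x}) = ((d + 1 : ℕ) : WithBot ℕ∞) := by
        have := ringKrullDim_quotient_span_singleton_succ_eq_ringKrullDim hxA hx
        rw [hd] at this
        exact GrothLib.LC.eq_natCast_of_add_one_eq this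
      have hG := (ih d (Nat.lt_succ_self d) (A ⧸ Ideal.span {x}) (I.map π) (J.map π) (inf_map_le hIJ hxC)
        (map_colon_iff hxA h) (map_colon_iff hxA h') hne2 hI1 hJ1 hdA' hI2 hJ2).1
      have hxC' : Ideal.Quotient.mk (I ⊔ J) x ∈ maximalIdeal (A ⧸ (I ⊔ J)) := by
        rw [← GrothLib.RegLoc.map_maximalIdeal_quotient (I ⊔ J)]; exact Ideal.mem_map_of_mem _ hx
      have hxCr : IsSMulRegular (A ⧸ (I ⊔ J)) (Ideal.Quotient.mk (I ⊔ J) x) := fun a b hab => hxC (by
        simpa [Algebra.smul_def] using hab)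
      refine (GorFlat.gorenstein_quot_iff hxC' hxCr).1 ?_
      exact (GorFlat.gorenstein_congr (((Ideal.quotEquivOfEq (Ideal.map_sup _ I J).symm).trans
        (DoubleQuot.quotQuotEquivComm (Ideal.span {x}) (I ⊔ J))).trans
          (Ideal.quotEquivOfEq (by rw [Ideal.map_span, Set.image_singleton])))).1 hG

end GrothLib.LiaisonCM
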