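import Groth.Agent.Lib.LiaisonCM.SupMain

/-!
# Geometrically linked ideals: global statements
-/

set_option autoImplicit false
set_option linter.style.haveILetI false
universe u

open IsLocalRing

namespace GrothLib.LiaisonCM

theorem map_inf_eq_bot {B L : Type u} [CommRing B] [CommRing L] [Algebra B L] (M : Submonoid B)
    [IsLocalization M L] {I J : Ideal B} (h : I ⊓ J = ⊥) :
    I.map (algebraMap B L) ⊓ J.map (algebraMap B L) = ⊥ := by
  rw [eq_bot_iff]
  rintro z ⟨hzI, hzJ⟩
  obtain ⟨⟨⟨a, ha⟩, s⟩, hs⟩ := (IsLocalization.mem_map_algebraMap_iff M L).1 hzI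
  obtain ⟨⟨⟨b, hb⟩, t⟩, ht⟩ := (IsLocalization.mem_map_algebraMap_iff M L).1 hzJ
  simp only at hs ht
  obtain ⟨u, hu⟩ := (IsLocalization.eq_iff_exists M L).1
    (show algebraMap B L (a * (t : B)) = algebraMap B L (b * (s : B)) by
      rw [map_mul, map_mul, ← hs, ← ht]; ring)
  have hmem : (u : B) * (a * t) ∈ I ⊓ J := ⟨I.mul_mem_left _ (I.mul_mem_right _ ha), by
    show (u : B) * (a * t) ∈ J
    rw [hu]; exact J.mul_mem_left _ (J.mul_mem_right _ hb)⟩
  rw [h, Ideal.mem_bot] at hmem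
  have h0 := congrArg (algebraMap B L) hmem
  rw [map_mul, map_mul, ← hs, map_zero, (IsLocalization.map_units L u).mul_right_eq_zero,
    (IsLocalization.map_units L t).mul_left_eq_zero, (IsLocalization.map_units L s).mul_left_eq_zero] at h0
  exact Ideal.mem_bot.2 h0

/-- A nonzero annihilator forces full dimension. -/
theorem le_dim_quot_of_annihilated {A : Type u} [CommRing A] [IsLocalRing A] [LocCoh.IsGorensteinLocalRing A]
    {I J : Ideal A} (h' : ∀ y, y ∈ I ↔ ∀ j ∈ J, y * j = 0) (hJ0 : J ≠ ⊥) {d : ℕ} (hd : ringKrullDim A = d) :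
    ringKrullDim (A ⧸ I) = d := by
  refine le_antisymm ((ringKrullDim_quotient_le I).trans hd.le) ?_
  obtain ⟨d', hd', hdep, -⟩ := Gor.exists_dim A
  obtain rfl : d' = d := by rw [hd'] at hd; exact_mod_cast hd
  obtain ⟨j, hj, hj0⟩ := J.ne_bot_iff.1 hJ0
  by_contra hcon
  obtain ⟨x, hx, hxP⟩ := exists_regular_avoid I _ (associatedPrimes.finite A A) (fun P hP => hP.isPrime)
    (fun P hP hle => by
      have h1 := GrothLib.Depth.depth_le_dim_quotient hP
      rw [hdep] at h1
      exact hcon (le_trans (by exact_mod_cast h1) (ringKrullDim_le_of_surjective (Ideal.Quotient.factor hle)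
        (Ideal.Quotient.factor_surjective hle))))
  exact hj0 ((isSMulRegular_of_avoid hxP).right_eq_zero_of_smul (by rw [smul_eq_mul]; exact (h' x).1 hx j hj))

theorem isCohenMacaulayLocalRing_quot_map {B : Type u} [CommRing B] (I : Ideal B)
    [hI : LocCoh.IsCohenMacaulayRing (B ⧸ I)] (Q : Ideal B) [Q.IsPrime] (hIQ : I ≤ Q) :
    LocCoh.IsCohenMacaulayLocalRing (Localization.AtPrime Q ⧸ I.map (algebraMap B (Localization.AtPrime Q))) := by
  have hk : RingHom.ker (Ideal.Quotient.mk I) ≤ Q := by rwa [Ideal.mk_ker]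
  haveI : (Q.map (Ideal.Quotient.mk I)).IsPrime :=
    Ideal.map_isPrime_of_surjective Ideal.Quotient.mk_surjective hk
  have key : ∀ (Q' : Ideal B) [Q'.IsPrime], Q' = Q →
      Nonempty ((Localization.AtPrime Q' ⧸ I.map (algebraMap B (Localization.AtPrime Q'))) ≃+*
        Localization.AtPrime (Q.map (Ideal.Quotient.mk I))) →
      LocCoh.IsCohenMacaulayLocalRing (Localization.AtPrime Q ⧸ I.map (algebraMap B (Localization.AtPrime Q))) := by
    rintro Q' _ rfl ⟨e'⟩
    haveI := hI.isCohenMacaulayLocalRing_localization (Q'.map (Ideal.Quotient.mk I))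
    exact cm_of_ringEquiv (R := Localization.AtPrime (Q'.map (Ideal.Quotient.mk I))) e'.symm
  obtain ⟨e'⟩ := nonempty_localization_quot (Ideal.Quotient.mk I) Ideal.Quotient.mk_surjective
    (Q.map (Ideal.Quotient.mk I))
  exact key _ (GrothLib.Faltings.comap_map_eq Ideal.Quotient.mk_surjective hk)
    ⟨(Ideal.quotEquivOfEq (by rw [Ideal.mk_ker])).trans e'⟩

variable {B : Type u} [CommRing B] [hB : LocCoh.IsGorensteinRing B] {I J : Ideal B}
  [LocCoh.IsCohenMacaulayRing (B ⧸ I)] [LocCoh.IsCohenMacaulayRing (B ⧸ J)]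
  (hIJ : I ⊓ J = ⊥) (h : ∀ y, y ∈ J ↔ ∀ i ∈ I, y * i = 0) (h' : ∀ y, y ∈ I ↔ ∀ j ∈ J, y * j = 0)
include hB hIJ h h'

theorem local_facts (Q : Ideal B) [Q.IsPrime] (hQ : I ⊔ J ≤ Q) :
    ∃ d : ℕ, ringKrullDim (Localization.AtPrime Q) = ((d + 1 : ℕ) : WithBot ℕ∞) ∧
      ringKrullDim (Localization.AtPrime Q ⧸ (I ⊔ J).map (algebraMap B (Localization.AtPrime Q))) = (d : WithBot ℕ∞) ∧
      LocCoh.IsGorensteinLocalRing (Localization.AtPrime Q ⧸ (I ⊔ J).map (algebraMap B (Localization.AtPrime Q))) := by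
  haveI : IsNoetherianRing B := hB.toIsNoetherian
  let A := Localization.AtPrime Q
  haveI := hB.isGorensteinLocalRing_localization Q
  have hm : ∀ K : Ideal B, K ≤ Q → K.map (algebraMap B A) ≤ maximalIdeal A := fun K hK => by
    rw [← Localization.AtPrime.map_eq_maximalIdeal]; exact Ideal.map_mono hK
  have hne : ∀ K : Ideal B, K ≤ Q → K.map (algebraMap B A) ≠ ⊤ := fun K hK ht =>
    (maximalIdeal.isMaximal A).ne_top (top_le_iff.1 (ht.ge.trans (hm K hK)))
  have hIJA : I.map (algebraMap B A) ⊓ J.map (algebraMap B A) = ⊥ := map_inf_eq_bot Q.primeCompl hIJ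
  have hA := mem_map_colon_iff (L := A) Q.primeCompl h
  have hA' := mem_map_colon_iff (L := A) Q.primeCompl h'
  have hne' : I.map (algebraMap B A) ⊔ J.map (algebraMap B A) ≠ ⊤ := by
    rw [← Ideal.map_sup]; exact hne _ hQ
  have hJ0 : J.map (algebraMap B A) ≠ ⊥ := fun h0 => hne I (le_sup_left.trans hQ) (Ideal.eq_top_iff_one _ |>.2
    ((hA' 1).2 fun j hj => by rw [h0, Ideal.mem_bot] at hj; rw [hj, mul_zero]))
  have hI0 : I.map (algebraMap B A) ≠ ⊥ := fun h0 => hne J (le_sup_right.trans hQ) (Ideal.eq_top_iff_one _ |>.2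
    ((hA 1).2 fun j hj => by rw [h0, Ideal.mem_bot] at hj; rw [hj, mul_zero]))
  obtain ⟨d, hd, hdep, -⟩ := Gor.exists_dim A
  rcases d with _ | d
  · exact absurd ((sup_le (hm I (le_sup_left.trans hQ)) (hm J (le_sup_right.trans hQ))))
      (not_sup_le_of_mem_associatedPrimes hIJA hA hA'
        ((CMBasics.depth_eq_zero_iff (M := A)).1 (by rw [hdep]; rfl)))
  have hG := gorenstein_quot_sup d A _ _ hIJA hA hA' hne'
    (isCohenMacaulayLocalRing_quot_map I Q (le_sup_left.trans hQ))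
    (isCohenMacaulayLocalRing_quot_map J Q (le_sup_right.trans hQ)) hd
    (le_dim_quot_of_annihilated hA' hJ0 hd) (le_dim_quot_of_annihilated hA hI0 hd)
  rw [← Ideal.map_sup] at hG
  exact ⟨d, hd, hG.2, hG.1⟩

theorem isGorensteinRing_quot_sup : LocCoh.IsGorensteinRing (B ⧸ (I ⊔ J)) := by
  haveI : IsNoetherianRing B := hB.toIsNoetherian
  refine { isGorensteinLocalRing_localization := fun q _ => ?_ }
  obtain ⟨e⟩ := nonempty_localization_quot (Ideal.Quotient.mk (I ⊔ J)) Ideal.Quotient.mk_surjective q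
  have hQ : I ⊔ J ≤ q.comap (Ideal.Quotient.mk (I ⊔ J)) := fun y hy => by
    rw [Ideal.mem_comap, Ideal.Quotient.eq_zero_iff_mem.2 hy]; exact zero_mem _
  obtain ⟨d, -, -, hG⟩ := local_facts hIJ h h' _ hQ
  exact (GorFlat.gorenstein_congr ((Ideal.quotEquivOfEq (by rw [Ideal.mk_ker])).trans e)).1 hG

theorem height_eq_one_of_mem_minimalPrimes {P : Ideal B} (hP : P ∈ (I ⊔ J).minimalPrimes) : P.height = 1 := by
  haveI : IsNoetherianRing B := hB.toIsNoetherian
  haveI := hP.1.1
  obtain ⟨d, hd, hdC, -⟩ := local_facts hIJ h h' P hP.1.2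
  let A := Localization.AtPrime P
  haveI : Ring.KrullDimLE 0 (A ⧸ (I ⊔ J).map (algebraMap B A)) := Ring.KrullDimLE.mk₀ fun p hp => by
    let p' := p.comap (Ideal.Quotient.mk ((I ⊔ J).map (algebraMap B A)))
    have h1 : (I ⊔ J).map (algebraMap B A) ≤ p' := fun y hy => by
      rw [Ideal.mem_comap, Ideal.Quotient.eq_zero_iff_mem.2 hy]; exact zero_mem _
    haveI : (p'.comap (algebraMap B A)).IsPrime := inferInstance
    have h2 : P ≤ p'.comap (algebraMap B A) := hP.2 ⟨inferInstance, Ideal.map_le_iff_le_comap.1 h1⟩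
      (fun x hx => by
        by_contra hxP
        exact (Ideal.IsPrime.ne_top (inferInstance : p'.IsPrime)) (Ideal.eq_top_of_isUnit_mem _ hx
          (IsLocalization.map_units A (⟨x, hxP⟩ : P.primeCompl))))
    have h3 : maximalIdeal A ≤ p' := by
      rw [← Localization.AtPrime.map_eq_maximalIdeal]
      exact Ideal.map_le_iff_le_comap.2 h2
    haveI : p'.IsMaximal := (maximalIdeal.isMaximal A).eq_of_le (Ideal.IsPrime.ne_top inferInstance) h3 ▸
      maximalIdeal.isMaximal A
    have h4 := Ideal.map_eq_top_or_isMaximal_of_surjective (Ideal.Quotient.mk ((I ⊔ J).map (algebraMap B A)))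
      Ideal.Quotient.mk_surjective (I := p') inferInstance
    rw [Ideal.map_comap_of_surjective _ Ideal.Quotient.mk_surjective] at h4
    exact h4.resolve_left hp.ne_top
  have h0 := Ring.krullDimLE_iff.1 (inferInstance : Ring.KrullDimLE 0 (A ⧸ (I ⊔ J).map (algebraMap B A)))
  rw [hdC] at h0
  have hd0 : d = 0 := Nat.le_zero.1 (by exact_mod_cast h0)
  subst hd0
  have := IsLocalization.AtPrime.ringKrullDim_eq_height P A
  rw [hd] at this
  exact WithBot.coe_injective (by exact_mod_cast this.symm)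

end GrothLib.LiaisonCM
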